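import Cfsg.Agent.Lib.TensorMax.Orbit

/-!
The stabiliser of `F^a ⊗ F^b`, `a < b`, is maximal in `SL`.
-/

set_option autoImplicit false
set_option linter.unusedSectionVars false

namespace Cfsg.Agent.Lib.TensorMax

open Matrix Cfsg.Agent.Lib

variable {F : Type*} [Field F] {a b : ℕ} {M : Subgroup (GL (Fin a × Fin b) F)}

/-- An element fixing `T` and moving the image gives a larger intersection. -/
def HasInter (M : Subgroup (GL (Fin a × Fin b) F)) (k : ℕ) : Prop :=
  ∃ g ∈ M, ∃ v u : Fin b → F, v ≠ 0 ∧ u ≠ 0 ∧ ¬ IsProd (wsub g v) ∧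
    k ≤ Module.finrank F ↥(wsub g v ⊓ LinearMap.range (pl a u))

theorem hasInter_of_fix {g h : GL (Fin a × Fin b) F} (hg : g ∈ M) (hh : h ∈ M) {v : Fin b → F}
    (hv : v ≠ 0) {T : Submodule F (Matrix (Fin a) (Fin b) F)} (hT : T ≤ wsub g v)
    (hT0 : 0 < Module.finrank F T) (hfix : ∀ X ∈ T, op h X = X)
    (hmove : ∃ X ∈ wsub g v, op h X ∉ wsub g v) : HasInter M (Module.finrank F T) := by
  refine ⟨g⁻¹ * h * g, M.mul_mem (M.mul_mem (M.inv_mem hg) hh) hg, v, v, hv, hv, ?_, ?_⟩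
  · rintro ⟨u', hu', hW⟩
    obtain ⟨X, hX, hX0⟩ := Submodule.exists_mem_ne_zero_of_ne_bot (p := T) fun e => by
      rw [e, finrank_bot] at hT0; omega
    obtain ⟨x, hx⟩ := mem_wsub.1 (hT hX)
    have hpl : vecMulVec x v ∈ LinearMap.range (pl a v) := ⟨x, rfl⟩
    have hne : vecMulVec x v ≠ 0 := fun e => hX0 (by rw [← hx, e, map_zero])
    have hmem : vecMulVec x v ∈ LinearMap.range (pl a u') := by
      rw [← hW]
      refine mem_wsub.2 ⟨x, ?_⟩
      rw [op_mul, op_mul, hx, hfix X hX, ← hx, op_inv_op]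
    have heq := range_pl_eq hv hne hmem hpl
    obtain ⟨Y, hY, hYn⟩ := hmove
    obtain ⟨y, hy⟩ := mem_wsub.1 hY
    obtain ⟨z, hz⟩ : op (g⁻¹ * h * g) (vecMulVec y v) ∈ LinearMap.range (pl a v) := by
      rw [heq, ← hW]; exact mem_wsub.2 ⟨y, rfl⟩
    refine hYn (mem_wsub.2 ⟨z, ?_⟩)
    rw [← pl_apply, hz, op_mul, op_mul, hy, op_op_inv]
  · refine le_of_eq_of_le ?_ (Submodule.finrank_mono
      (show T.map (op g⁻¹) ≤ wsub (g⁻¹ * h * g) v ⊓ LinearMap.range (pl a v) from ?_))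
    · exact (Submodule.equivMapOfInjective _ (op_injective g⁻¹) T).finrank_eq
    · rintro _ ⟨X, hX, rfl⟩
      obtain ⟨x, hx⟩ := mem_wsub.1 (hT hX)
      have e : op g⁻¹ X = vecMulVec x v := by rw [← hx, op_inv_op]
      refine ⟨?_, x, by rw [pl_apply, e]⟩
      refine mem_wsub.2 ⟨x, ?_⟩
      rw [op_mul, op_mul, hx, hfix X hX]

theorem finrank_sup_line {V : Type*} [AddCommGroup V] [Module F V] [FiniteDimensional F V]
    (T : Submodule F V) {w : V} (hw : w ∉ T) :
    Module.finrank F ↥(T ⊔ F ∙ w) = Module.finrank F T + 1 := by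
  have h1 := Submodule.finrank_sup_add_finrank_inf_eq T (F ∙ w)
  have h2 : T ⊓ (F ∙ w) = ⊥ := by
    refine (Submodule.eq_bot_iff _).2 fun x hx => ?_
    obtain ⟨t, rfl⟩ := Submodule.mem_span_singleton.1 hx.2
    by_contra h0
    have ht : t ≠ 0 := fun e => h0 (by rw [e, zero_smul])
    exact hw (by simpa [smul_smul, inv_mul_cancel₀ ht] using T.smul_mem t⁻¹ hx.1)
  rw [h2, finrank_bot, finrank_span_singleton (fun e : w = 0 => hw (e ▸ T.zero_mem))] at h1
  omega

section Steps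

variable (hN : tensorSL a b F ≤ M)
include hN

/-- If `k` is maximal, few vectors of an image can be killed together. -/
theorem hasRad_or_not_killed (ha : 1 ≤ a) (hab : a < b) {k : ℕ}
    (hmax : ∀ k', k < k' → ¬ HasInter M k') {g : GL (Fin a × Fin b) F} (hg : g ∈ M) {v φ : Fin b → F}
    (hv : v ≠ 0) (hφ : φ ≠ 0) (hW : ¬ IsProd (wsub g v)) {T : Submodule F (Matrix (Fin a) (Fin b) F)}
    (hT : T ≤ wsub g v) (hTk : k < Module.finrank F T) (hTφ : ∀ X ∈ T, X *ᵥ φ = 0) : HasRad M := by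
  refine hasRad_of_killed hN (by omega) hg ha hv hφ hW ?_
  have hmem : ∀ X ∈ wsub g v, ∀ v' : Fin b → F, v' ⬝ᵥ φ = 0 →
      vecMulVec (X *ᵥ φ) v' ∈ wsub g v := by
    intro X hX v' hv'
    obtain ⟨t, ht, htX⟩ := exists_TB (a := a) φ v' hv'
    by_contra hn
    refine hmax _ hTk (hasInter_of_fix hg (hN ht) hv hT (by omega)
      (fun Y hY => by rw [htX, hTφ Y hY, pure_zero_left, add_zero]) ⟨X, hX, ?_⟩)
    rw [htX]
    exact fun h => hn (((wsub g v).add_mem_iff_right hX).1 h)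
  intro X hX
  by_contra hm
  set m := X *ᵥ φ with hmdef
  obtain ⟨η, hη⟩ := exists_dot_one hm
  rw [dotProduct_comm] at hη
  let H : Submodule F (Fin b → F) := LinearMap.ker (dots ![φ])
  let L : H →ₗ[F] Matrix (Fin a) (Fin b) F :=
    { toFun := fun w => vecMulVec m (w : Fin b → F)
      map_add' := fun p q => pure_add_right _ _ _
      map_smul' := fun t p => pure_smul_right _ _ _ }
  have hLle : LinearMap.range L ≤ wsub g v := by
    rintro _ ⟨w, rfl⟩
    exact hmem X hX w ((dotProduct_comm _ φ).trans (congrFun w.2 0))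
  have hinj : Function.Injective L := fun p q e => Subtype.ext (by
    have := congrArg (fun Z => η ᵥ* Z) e
    simpa [L, vecMul_pure, hη] using this)
  have h1 := (dots (F := F) ![φ]).finrank_range_add_finrank_ker
  have h2 := Submodule.finrank_le (LinearMap.range (dots (F := F) ![φ]))
  rw [Module.finrank_fin_fun] at h1 h2
  have h3 := Submodule.finrank_mono hLle
  rw [LinearMap.finrank_range_of_inj hinj, finrank_wsub g hv] at h3
  have h4 : LinearMap.range L = wsub g v := Submodule.eq_of_le_of_finrank_eq hLle (by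
    rw [LinearMap.finrank_range_of_inj hinj, finrank_wsub g hv]
    show Module.finrank F (LinearMap.ker (dots ![φ])) = a
    have : Module.finrank F H = Module.finrank F (LinearMap.ker (dots (F := F) ![φ])) := rfl
    omega)
  obtain ⟨w, hw⟩ : X ∈ LinearMap.range L := h4.symm ▸ hX
  refine hm ?_
  rw [hmdef, ← hw]
  show vecMulVec m (w : Fin b → F) *ᵥ φ = 0
  rw [pure_mulVec, (dotProduct_comm _ φ).trans (congrFun w.2 0)]
  exact zero_smul F m

/-- The last case: the image meets a pure space in a hyperplane. -/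
theorem hasRad_hyperplane (ha : 2 ≤ a) (hb : b = a + 1) {g : GL (Fin a × Fin b) F} (hg : g ∈ M)
    {v u : Fin b → F} (hv : v ≠ 0) (hu : u ≠ 0)
    (hk : Module.finrank F ↥(wsub g v ⊓ LinearMap.range (pl a u)) + 1 = a)
    {w : Matrix (Fin a) (Fin b) F} (hw : w ∈ wsub g v) (hwu : w ∉ LinearMap.range (pl a u))
    (hinj : ∀ φ : Fin b → F, u ⬝ᵥ φ = 0 → w *ᵥ φ = 0 → φ = 0)
    (hsurj : ∀ y : Fin a → F, ∃ φ, w *ᵥ φ = y ∧ u ⬝ᵥ φ = 0) : HasRad M := by
  classical
  set W := wsub g v with hWdef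
  set T := W ⊓ LinearMap.range (pl a u) with hTdef
  have hTW : T ≤ W := inf_le_left
  have hWeq : T ⊔ F ∙ w = W := by
    refine Submodule.eq_of_le_of_finrank_eq (sup_le hTW (by rwa [Submodule.span_singleton_le_iff_mem])) ?_
    rw [finrank_sup_line T fun h => hwu h.2, hk, hWdef, finrank_wsub g hv]
  let SA : Submodule F (Fin a → F) := W.comap (pl a u)
  have hSA : Module.finrank F SA = Module.finrank F T := by
    rw [(Submodule.equivMapOfInjective _ (pl_injective hu) SA).finrank_eq, Submodule.map_comap_eq, hTdef,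
      inf_comm]
  let T1 : Submodule F (Fin a → F) := T.comap ((op g).comp (pl a v))
  have hT1 : Module.finrank F T1 = Module.finrank F T := by
    have hi : Function.Injective ((op g).comp (pl a v)) := fun x y h => pl_injective hv (op_injective g h)
    rw [(Submodule.equivMapOfInjective _ hi T1).finrank_eq, Submodule.map_comap_eq,
      inf_eq_right.2 (show T ≤ LinearMap.range ((op g).comp (pl a v)) from hTW)]
  obtain ⟨x₁, hx₁⟩ : ∃ x₁, x₁ ∉ SA := by
    by_contra hc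
    push Not at hc
    have h := Submodule.finrank_mono (show (⊤ : Submodule F (Fin a → F)) ≤ SA from fun x _ => hc x)
    rw [finrank_top, Module.finrank_fin_fun, hSA] at h
    omega
  have htop : SA ⊔ F ∙ x₁ = ⊤ := Submodule.eq_top_of_finrank_eq (by
    rw [finrank_sup_line SA hx₁, hSA, hk, Module.finrank_fin_fun])
  -- the covector
  obtain ⟨φ₀, hφ₀v, hφ₀T, hφ₀0⟩ : ∃ φ₀ : Fin b → F, v ⬝ᵥ φ₀ = 0 ∧
      op g⁻¹ (vecMulVec x₁ u) *ᵥ φ₀ ∈ T1 ∧ φ₀ ≠ 0 := by
    let L : (Fin b → F) →ₗ[F] F × ((Fin a → F) ⧸ T1) :=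
      { toFun := fun φ => (v ⬝ᵥ φ, Submodule.Quotient.mk (op g⁻¹ (vecMulVec x₁ u) *ᵥ φ))
        map_add' := fun p q => by simp [dotProduct_add, mulVec_add]
        map_smul' := fun t p => by simp [dotProduct_smul, mulVec_smul] }
    obtain ⟨φ, hφ, hφ0⟩ := exists_ker_notMem L ⊥ (by
      rw [Module.finrank_prod, Module.finrank_self, finrank_bot, Module.finrank_fin_fun]
      have := Submodule.finrank_quotient_add_finrank T1
      rw [Module.finrank_fin_fun] at this
      omega)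
    exact ⟨φ, congrArg Prod.fst hφ, (Submodule.Quotient.mk_eq_zero _).1 (congrArg Prod.snd hφ),
      by simpa using hφ0⟩
  obtain ⟨t, ht, htX⟩ := exists_TB (a := a) φ₀ v hφ₀v
  set y := g * t * g⁻¹ with hydef
  have hyM : y ∈ M := M.mul_mem (M.mul_mem hg (hN ht)) (M.inv_mem hg)
  let A : Matrix (Fin a) (Fin b) F →ₗ[F] Matrix (Fin a) (Fin b) F :=
    op g ∘ₗ pl a v ∘ₗ contr a φ₀ ∘ₗ op g⁻¹
  have hA : ∀ X, A X = op g (vecMulVec (op g⁻¹ X *ᵥ φ₀) v) := fun X => rfl
  have hyA : ∀ X, op y X = X + A X := fun X => by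
    rw [hydef, op_mul, op_mul, htX, map_add, op_op_inv, hA]
  have hAW : ∀ X, A X ∈ W := fun X => mem_wsub.2 ⟨_, rfl⟩
  have hAonW : ∀ Z ∈ W, A Z = 0 := by
    intro Z hZ
    obtain ⟨x, rfl⟩ := mem_wsub.1 hZ
    rw [hA, op_inv_op, pure_mulVec, hφ₀v, zero_smul, pure_zero_left, map_zero]
  have hAA : ∀ X, A (A X) = 0 := fun X => hAonW _ (hAW X)
  have hAsur : ∀ Z ∈ W, ∃ X, A X = Z := by
    intro Z hZ
    obtain ⟨x, rfl⟩ := mem_wsub.1 hZ
    obtain ⟨c, hc⟩ := exists_dot_one hφ₀0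
    rw [dotProduct_comm] at hc
    exact ⟨op g (vecMulVec x c), by rw [hA, op_inv_op, pure_mulVec, hc, one_smul]⟩
  obtain ⟨φu, hφu⟩ := exists_dot_one hu
  let E : (Fin a → F) →ₗ[F] (Fin a → F) := contr a φu ∘ₗ A ∘ₗ pl a u
  have hAx₁ : A (vecMulVec x₁ u) ∈ T := hφ₀T
  have hTu : ∀ Z ∈ T, Z = vecMulVec (Z *ᵥ φu) u := by
    intro Z hZ
    obtain ⟨z, rfl⟩ := hZ.2
    rw [pl_apply, pure_mulVec, hφu, one_smul]
  have hdec : ∀ x : Fin a → F, ∃ s ∈ SA, ∃ r : F, x = s + r • x₁ := fun x => by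
    obtain ⟨s, hs, z, hz, rfl⟩ := Submodule.mem_sup.1 (htop.symm ▸ Submodule.mem_top (x := x))
    obtain ⟨r, rfl⟩ := Submodule.mem_span_singleton.1 hz
    exact ⟨s, hs, r, rfl⟩
  have hsplit : ∀ x, ∃ r : F, A (vecMulVec x u) = r • A (vecMulVec x₁ u) ∧
      E x = r • E x₁ := by
    intro x
    obtain ⟨s, hs, r, rfl⟩ := hdec x
    have h0 : A (vecMulVec s u) = 0 := hAonW _ hs
    refine ⟨r, by rw [pure_add_left, pure_smul_left, map_add, map_smul, h0, zero_add], ?_⟩
    show (A (vecMulVec (s + r • x₁) u)) *ᵥ φu = r • (A (vecMulVec x₁ u) *ᵥ φu)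
    rw [pure_add_left, pure_smul_left, map_add, map_smul, h0, zero_add, smul_mulVec]
  have hAE : ∀ x, A (vecMulVec x u) = vecMulVec (E x) u := by
    intro x
    obtain ⟨r, hr, hrE⟩ := hsplit x
    rw [hr, hrE, hTu _ hAx₁, pure_smul_left]
    rfl
  have hWψ : ∀ ψ : Fin b → F, u ⬝ᵥ ψ = 0 → ∀ Z ∈ W, ∃ s : F, Z *ᵥ ψ = s • (w *ᵥ ψ) := by
    intro ψ hψ Z hZ
    rw [← hWeq] at hZ
    obtain ⟨Z₀, hZ₀, Z₁, hZ₁, rfl⟩ := Submodule.mem_sup.1 hZ
    obtain ⟨s, rfl⟩ := Submodule.mem_span_singleton.1 hZ₁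
    refine ⟨s, ?_⟩
    rw [add_mulVec, smul_mulVec, hTu Z₀ hZ₀, pure_mulVec, hψ, zero_smul, zero_add]
  by_contra hno
  by_cases he : E x₁ = 0
  · -- `y` fixes the pure space
    have hAu : ∀ x, A (vecMulVec x u) = 0 := fun x => by
      obtain ⟨r, -, hrE⟩ := hsplit x
      rw [hAE, hrE, he, smul_zero, pure_zero_left]
    obtain ⟨φ, hφ, hφ0⟩ := exists_perp_ne ![u] (show 1 < b by omega)
    have hwφ : w *ᵥ φ ≠ 0 := fun e => hφ0 (hinj φ (hφ 0) e)
    have hR := rad_comm hN (u := u) (φ := φ) (hφ 0) hyM hyA hAA hAu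
    obtain ⟨ψ, hψ⟩ : ∃ ψ : Fin b → F, ∀ X, (contr a φ ∘ₗ A) X = X *ᵥ ψ := by
      by_contra hns
      exact hno ⟨u, _, hu, hR, hns⟩
    have hψ' : ∀ X, A X *ᵥ φ = X *ᵥ ψ := hψ
    by_cases hψ0 : ψ = 0
    · obtain ⟨X, hX⟩ := hAsur w hw
      have := hψ' X
      rw [hX, hψ0, mulVec_zero] at this
      exact hwφ this
    obtain ⟨c, hc⟩ := exists_dot_one hψ0
    rw [dotProduct_comm] at hc
    obtain ⟨x, hx⟩ : ∃ x : Fin a → F, x ∉ F ∙ (w *ᵥ φ) := by
      by_contra hc'
      push Not at hc'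
      have h := Submodule.finrank_mono (show (⊤ : Submodule F (Fin a → F)) ≤ F ∙ (w *ᵥ φ) from fun x _ => hc' x)
      rw [finrank_top, Module.finrank_fin_fun, finrank_span_singleton hwφ] at h
      omega
    obtain ⟨s, hs⟩ := hWψ φ (hφ 0) _ (hAW (vecMulVec x c))
    rw [hψ', pure_mulVec, hc, one_smul] at hs
    exact hx (Submodule.mem_span_singleton.2 ⟨s, hs.symm⟩)
  · -- `y` induces a transvection on the pure space
    obtain ⟨y₂, hy₂⟩ : ∃ y₂, y₂ ∉ F ∙ E x₁ := by
      by_contra hc'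
      push Not at hc'
      have h := Submodule.finrank_mono (show (⊤ : Submodule F (Fin a → F)) ≤ F ∙ E x₁ from fun x _ => hc' x)
      rw [finrank_top, Module.finrank_fin_fun, finrank_span_singleton he] at h
      omega
    obtain ⟨φ, hwφ, huφ⟩ := hsurj y₂
    obtain ⟨s₀, hs₀, hs₀X⟩ := exists_TB (a := a) φ u huφ
    have hyi : ∀ X, op y⁻¹ X = X - A X := fun X => by
      apply op_injective y
      rw [op_op_inv, hyA, map_sub, hAA, sub_zero]
      abel
    have hR : Rad M u ((LinearMap.id + E) ∘ₗ contr a φ ∘ₗ (LinearMap.id - A)) := by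
      refine ⟨fun x => ?_, y * s₀ * y⁻¹, M.mul_mem (M.mul_mem hyM (hN hs₀)) (M.inv_mem hyM), fun X => ?_⟩
      · simp [contr_apply, hAE, sub_mulVec, pure_mulVec, huφ]
      · rw [op_mul, op_mul, hyi, hs₀X, hyA, map_add, map_sub, hAA, hAE]
        simp only [LinearMap.comp_apply, LinearMap.add_apply, LinearMap.sub_apply, LinearMap.id_apply,
          contr_apply, pure_add_left]
        abel
    obtain ⟨ψ, hψ⟩ : ∃ ψ : Fin b → F, ∀ X,
        ((LinearMap.id + E) ∘ₗ contr a φ ∘ₗ (LinearMap.id - A)) X = X *ᵥ ψ := by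
      by_contra hns
      exact hno ⟨u, _, hu, hR, hns⟩
    have hψ' : ∀ X, (X - A X) *ᵥ φ + E ((X - A X) *ᵥ φ) = X *ᵥ ψ := hψ
    have huψ : u ⬝ᵥ ψ = 0 := by
      have := hψ' (vecMulVec x₁ u)
      rw [hAE, sub_mulVec, pure_mulVec, pure_mulVec, pure_mulVec, huφ, zero_smul, zero_smul, sub_zero,
        map_zero, add_zero] at this
      exact (smul_eq_zero.1 this.symm).resolve_right fun e => hx₁ (by rw [e]; exact SA.zero_mem)
    have key : ∀ (x : Fin a → F) (c : Fin b → F),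
        ∃ r : F, (c ⬝ᵥ φ) • x + (c ⬝ᵥ φ) • E x = (c ⬝ᵥ ψ) • x + r • (w *ᵥ ψ) := by
      intro x c
      obtain ⟨r, hr⟩ := hWψ ψ huψ _ (hAW (vecMulVec x c))
      refine ⟨r, ?_⟩
      have := hψ' (vecMulVec x c + A (vecMulVec x c))
      rw [map_add A, hAA, add_zero, add_sub_cancel_right, pure_mulVec, map_smul, add_mulVec, pure_mulVec,
        hr] at this
      exact this
    have hEx : E x₁ ∈ SA := by
      show vecMulVec (E x₁) u ∈ W
      rw [← hAE]
      exact hAW _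
    obtain ⟨x, hx⟩ : ∃ x : Fin a → F, ∀ (e r c d : F), d ≠ 0 → E x = e • E x₁ →
        d • x = r • (w *ᵥ ψ) - (c * e) • E x₁ → False := by
      by_cases hwS : w *ᵥ ψ ∈ SA
      · refine ⟨x₁, fun e r c d hd _ h => hx₁ ?_⟩
        have hmem : d • x₁ ∈ SA := h ▸ SA.sub_mem (SA.smul_mem r hwS) (SA.smul_mem _ hEx)
        simpa [smul_smul, inv_mul_cancel₀ hd] using SA.smul_mem d⁻¹ hmem
      · refine ⟨E x₁, fun e r c d hd he1 h => ?_⟩
        have hEE : E (E x₁) = 0 := by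
          show A (pl a u (E x₁)) *ᵥ φu = 0
          rw [hAonW _ hEx, zero_mulVec]
        rw [hEE] at he1
        have he0 : e = 0 := (smul_eq_zero.1 he1.symm).resolve_right he
        rw [he0, mul_zero, zero_smul, sub_zero] at h
        have hr : r ≠ 0 := fun e => he ((smul_eq_zero.1 (h.trans (by rw [e, zero_smul]))).resolve_left hd)
        refine hwS ?_
        have hmem : r • (w *ᵥ ψ) ∈ SA := h ▸ SA.smul_mem d hEx
        simpa [smul_smul, inv_mul_cancel₀ hr] using SA.smul_mem r⁻¹ hmem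
    have heq : φ = ψ := by
      refine dotProduct_eq _ _ fun c => ?_
      rw [dotProduct_comm φ c, dotProduct_comm ψ c]
      by_contra hne
      obtain ⟨r, hr⟩ := key x c
      obtain ⟨e₁, -, he₁⟩ := hsplit x
      rw [he₁] at hr
      refine hx e₁ r (c ⬝ᵥ φ) (c ⬝ᵥ φ - c ⬝ᵥ ψ) (sub_ne_zero.2 hne) he₁ ?_
      linear_combination (norm := module) hr
    obtain ⟨c, hc⟩ := exists_dot_one (show φ ≠ 0 from fun e => hy₂ (by
      rw [← hwφ, e, mulVec_zero]; exact Submodule.zero_mem _))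
    rw [dotProduct_comm] at hc
    obtain ⟨r, hr⟩ := key x₁ c
    rw [← heq, hc, one_smul, one_smul, hwφ, add_right_inj] at hr
    have hr0 : r ≠ 0 := fun e => he (by rw [hr, e, zero_smul])
    exact hy₂ (Submodule.mem_span_singleton.2 ⟨r⁻¹, by rw [hr, smul_smul, inv_mul_cancel₀ hr0, one_smul]⟩)

/-- An element outside the tensor stabiliser gives a radical element. -/
theorem hasRad_of_not_kron (ha : 2 ≤ a) (hab : a < b)
    {g₀ : GL (Fin a × Fin b) F} (hg₀ : g₀ ∈ M) (hg₀k : g₀ ∉ Cfsg.Geo.kroneckerSubgroup a b F) :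
    HasRad M := by
  classical
  by_contra hno
  obtain ⟨v₀, hv₀, hW₀⟩ : ∃ v₀ : Fin b → F, v₀ ≠ 0 ∧ ¬ IsProd (wsub g₀ v₀) := by
    by_contra hc
    push Not at hc
    exact hg₀k (mem_kron_of_prod (by omega) (by omega) g₀ hc)
  have hP0 : HasInter M 0 := ⟨g₀, hg₀, v₀, v₀, hv₀, hv₀, hW₀, Nat.zero_le _⟩
  let k := Nat.findGreatest (HasInter M) a
  have hk : HasInter M k := Nat.findGreatest_spec (P := HasInter M) (Nat.zero_le a) hP0
  have hmax : ∀ k', k < k' → ¬ HasInter M k' := by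
    intro k' hlt hP
    by_cases hle : k' ≤ a
    · exact Nat.findGreatest_is_greatest hlt hle hP
    · obtain ⟨g, -, v, u, hv, -, -, hk'⟩ := hP
      have := Submodule.finrank_mono (inf_le_left : wsub g v ⊓ LinearMap.range (pl a u) ≤ wsub g v)
      rw [finrank_wsub g hv] at this
      omega
  have kill : ∀ {g : GL (Fin a × Fin b) F}, g ∈ M → ∀ {v φ : Fin b → F}, v ≠ 0 → φ ≠ 0 →
      ¬ IsProd (wsub g v) → ∀ {T : Submodule F (Matrix (Fin a) (Fin b) F)}, T ≤ wsub g v →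
      k < Module.finrank F T → (∀ X ∈ T, X *ᵥ φ = 0) → False := fun hg _ _ hv hφ hW _ hT hTk hTφ =>
    hno (hasRad_or_not_killed hN (by omega) hab hmax hg hv hφ hW hT hTk hTφ)
  have hk1 : 1 ≤ k := by
    by_contra hk0
    obtain ⟨X, hX, hX0⟩ := Submodule.exists_mem_ne_zero_of_ne_bot (p := wsub g₀ v₀) fun e => by
      have := finrank_wsub g₀ hv₀; rw [e, finrank_bot] at this; omega
    obtain ⟨φ, hφ, hφ0⟩ := exists_ker_notMem X.mulVecLin ⊥ (by simpa using hab)
    refine kill hg₀ hv₀ (by simpa using hφ0) hW₀ (T := F ∙ X) (by rwa [Submodule.span_singleton_le_iff_mem])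
      (by rw [finrank_span_singleton hX0]; omega) fun Y hY => ?_
    obtain ⟨s, rfl⟩ := Submodule.mem_span_singleton.1 hY
    rw [smul_mulVec, show X *ᵥ φ = 0 from hφ, smul_zero]
  obtain ⟨g, hg, v, u, hv, hu, hW, hkW⟩ := hk
  set W := wsub g v with hWdef
  set T := W ⊓ LinearMap.range (pl a u) with hTdef
  have hTk : Module.finrank F T = k := by
    refine le_antisymm ?_ hkW
    by_contra hlt
    exact hmax _ (not_le.1 hlt) ⟨g, hg, v, u, hv, hu, hW, le_refl _⟩
  have hTlt : T ≠ W := by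
    intro e
    refine hW ⟨u, hu, ?_⟩
    refine Submodule.eq_of_le_of_finrank_eq (inf_eq_left.1 e) ?_
    rw [hWdef, finrank_wsub g hv, finrank_range_pl hu]
  have hTW : T ≤ W := inf_le_left
  have hka : k < a := by
    have := Submodule.finrank_lt_finrank_of_lt (lt_of_le_of_ne hTW hTlt)
    rw [hTk, hWdef, finrank_wsub g hv] at this
    exact this
  have hTu : ∀ Z ∈ T, ∀ φ : Fin b → F, u ⬝ᵥ φ = 0 → Z *ᵥ φ = 0 := by
    intro Z hZ φ hφ
    obtain ⟨z, rfl⟩ := hZ.2
    rw [pl_apply, pure_mulVec, hφ, zero_smul]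
  have hinj : ∀ w ∈ W, w ∉ LinearMap.range (pl a u) → ∀ φ : Fin b → F, u ⬝ᵥ φ = 0 → w *ᵥ φ = 0 → φ = 0 := by
    intro w hw hwu φ huφ hwφ
    by_contra hφ0
    refine kill hg hv hφ0 hW (T := T ⊔ F ∙ w)
      (sup_le hTW (by rwa [Submodule.span_singleton_le_iff_mem]))
      (by rw [finrank_sup_line T fun h => hwu h.2, hTk]; omega) fun Z hZ => ?_
    obtain ⟨Z₀, hZ₀, Z₁, hZ₁, rfl⟩ := Submodule.mem_sup.1 hZ
    obtain ⟨s, rfl⟩ := Submodule.mem_span_singleton.1 hZ₁
    rw [add_mulVec, smul_mulVec, hTu Z₀ hZ₀ φ huφ, hwφ, smul_zero, add_zero]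
  obtain ⟨w, hw, hwu⟩ : ∃ w ∈ W, w ∉ LinearMap.range (pl a u) := by
    by_contra hc
    push Not at hc
    exact hTlt (inf_eq_left.2 hc)
  let Lw : (Fin b → F) →ₗ[F] (Fin a → F) × F :=
    { toFun := fun φ => (w *ᵥ φ, u ⬝ᵥ φ)
      map_add' := fun p q => by simp [mulVec_add, dotProduct_add]
      map_smul' := fun t p => by simp [mulVec_smul, dotProduct_smul] }
  have hLinj : Function.Injective Lw := (injective_iff_map_eq_zero Lw).2 fun φ hφ =>
    hinj w hw hwu φ (congrArg Prod.snd hφ) (congrArg Prod.fst hφ)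
  have hb : b = a + 1 := by
    have h := LinearMap.finrank_le_finrank_of_injective hLinj
    rw [Module.finrank_prod, Module.finrank_fin_fun, Module.finrank_fin_fun, Module.finrank_self] at h
    omega
  let Le := LinearEquiv.ofInjectiveOfFinrankEq Lw hLinj (by
    rw [Module.finrank_prod, Module.finrank_fin_fun, Module.finrank_fin_fun, Module.finrank_self, hb])
  let σ : (Fin a → F) →ₗ[F] (Fin b → F) := Le.symm.toLinearMap ∘ₗ LinearMap.inl F (Fin a → F) F
  have hσ : ∀ y, w *ᵥ σ y = y ∧ u ⬝ᵥ σ y = 0 := fun y => by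
    have h : Lw (σ y) = (y, (0 : F)) := Le.apply_symm_apply (y, 0)
    exact ⟨congrArg Prod.fst h, congrArg Prod.snd h⟩
  have hσw : ∀ φ, u ⬝ᵥ φ = 0 → σ (w *ᵥ φ) = φ := fun φ hφ => hLinj (by
    show (w *ᵥ σ (w *ᵥ φ), u ⬝ᵥ σ (w *ᵥ φ)) = (w *ᵥ φ, u ⬝ᵥ φ)
    rw [(hσ _).1, (hσ _).2, hφ])
  by_cases hk2 : k + 1 = a
  · exact hno (hasRad_hyperplane hN ha hb hg hv hu (by rw [← hTdef, hTk]; exact hk2) hw hwu (hinj w hw hwu)
      fun y => ⟨σ y, hσ y⟩)
  let SA : Submodule F (Fin a → F) := W.comap (pl a u)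
  have hSA : Module.finrank F SA = k := by
    rw [(Submodule.equivMapOfInjective _ (pl_injective hu) SA).finrank_eq, Submodule.map_comap_eq, inf_comm,
      ← hTdef, hTk]
  have heig : ∀ X ∈ W, ∀ x, ∃ c : F, X *ᵥ σ x = c • x := by
    intro X hX x
    by_cases hx0 : x = 0
    · exact ⟨0, by simp [hx0]⟩
    obtain ⟨bas, hbas⟩ : ∃ f : Fin k → (Fin a → F), Submodule.span F (Set.range f) = SA := by
      let e := Module.finBasisOfFinrankEq F SA hSA
      refine ⟨fun i => (e i : Fin a → F), ?_⟩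
      have := congrArg (Submodule.map SA.subtype) e.span_eq
      rwa [Submodule.map_span, ← Set.range_comp, Submodule.map_top, Submodule.range_subtype] at this
    obtain ⟨ξ, hξ, hξ0⟩ := exists_perp_ne (Matrix.vecCons x bas) (show k + 1 < a by omega)
    have hξx : ξ ⬝ᵥ x = 0 := (dotProduct_comm ξ x).trans (hξ 0)
    have hξS : ∀ z ∈ SA, ξ ⬝ᵥ z = 0 := by
      intro z hz
      rw [← hbas] at hz
      induction hz using Submodule.span_induction with
      | mem z hz =>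
        obtain ⟨i, rfl⟩ := hz
        exact (dotProduct_comm ξ _).trans (by simpa using hξ i.succ)
      | zero => simp
      | add p q _ _ h1 h2 => rw [dotProduct_add, h1, h2, add_zero]
      | smul r p _ h1 => rw [dotProduct_smul, h1, smul_zero]
    set φ := σ x with hφdef
    set s := ξ ᵥ* w with hsdef
    have hsφ : ∀ y, s ⬝ᵥ σ y = ξ ⬝ᵥ y := fun y => by
      rw [hsdef, ← dotProduct_mulVec, (hσ y).1]
    obtain ⟨tA, htA, htAX⟩ := exists_TA (b := b) x ξ hξx
    obtain ⟨tB, htB, htBX⟩ := exists_TB (a := a) φ (-s) (by rw [neg_dotProduct, hsφ, hξx, neg_zero])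
    have hfix : ∀ Z ∈ T ⊔ F ∙ w, op (tB * tA) Z = Z := by
      intro Z hZ
      obtain ⟨Z₀, hZ₀, Z₁, hZ₁, rfl⟩ := Submodule.mem_sup.1 hZ
      obtain ⟨r, rfl⟩ := Submodule.mem_span_singleton.1 hZ₁
      obtain ⟨z, rfl⟩ := hZ₀.2
      have hz : ξ ⬝ᵥ z = 0 := hξS z hZ₀.1
      have h1 : op (tB * tA) (pl a u z) = pl a u z := by
        rw [op_mul, pl_apply, htAX, vecMul_pure, hz, zero_smul, pure_zero_right, add_zero, htBX,
          pure_mulVec, (hσ x).2, zero_smul, pure_zero_left, add_zero]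
      have h2 : op (tB * tA) w = w := by
        rw [op_mul, htAX, htBX, ← hsdef, add_mulVec, (hσ x).1, pure_mulVec, hsφ, hξx, zero_smul, add_zero,
          add_assoc, ← pure_add_right, add_neg_cancel, pure_zero_right, add_zero]
      rw [map_add, map_smul, h1, h2]
    have hstab : op (tB * tA) X ∈ W := by
      by_contra hn
      exact hmax _ (by rw [finrank_sup_line T fun h => hwu h.2, hTk]; omega)
        (hasInter_of_fix hg (M.mul_mem (hN htB) (hN htA)) hv
          (sup_le hTW (by rwa [Submodule.span_singleton_le_iff_mem]))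
          (by rw [finrank_sup_line T fun h => hwu h.2]; omega) hfix ⟨X, hX, hn⟩)
    set X₁ := X + vecMulVec x (ξ ᵥ* X) with hX1
    have hdW : vecMulVec x (ξ ᵥ* X) + vecMulVec (X₁ *ᵥ φ) (-s) ∈ W := by
      have h := W.sub_mem hstab hX
      rwa [op_mul, htAX, htBX, ← hX1, hX1, add_assoc, add_sub_cancel_left, ← hX1] at h
    set D := vecMulVec x (ξ ᵥ* X) + vecMulVec (X₁ *ᵥ φ) (-s) with hD
    have hDu : D ∈ LinearMap.range (pl a u) := by
      by_contra hn
      let J : (Fin b → F) →ₗ[F] (Fin a → F) × F :=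
        { toFun := fun φ => (D *ᵥ φ, u ⬝ᵥ φ)
          map_add' := fun p q => by simp [mulVec_add, dotProduct_add]
          map_smul' := fun t p => by simp [mulVec_smul, dotProduct_smul] }
      have hJ : Function.Injective J := (injective_iff_map_eq_zero J).2 fun p hp =>
        hinj D hdW hn p (congrArg Prod.snd hp) (congrArg Prod.fst hp)
      have hJs : Function.Surjective J := (LinearMap.injective_iff_surjective_of_finrank_eq_finrank (by
        rw [Module.finrank_prod, Module.finrank_fin_fun, Module.finrank_fin_fun, Module.finrank_self, hb])).1 hJ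
      have hle : (⊤ : Submodule F (Fin a → F)) ≤ Submodule.span F (Set.range ![x, X₁ *ᵥ φ]) := by
        intro y _
        obtain ⟨p, hp⟩ := hJs (y, 0)
        have hp1 : D *ᵥ p = y := congrArg Prod.fst hp
        rw [← hp1, hD]
        generalize X₁ *ᵥ φ = m
        rw [add_mulVec, pure_mulVec, pure_mulVec]
        exact Submodule.add_mem _ (Submodule.smul_mem _ _ (Submodule.subset_span ⟨0, rfl⟩))
          (Submodule.smul_mem _ _ (Submodule.subset_span ⟨1, rfl⟩))
      have h := Submodule.finrank_mono hle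
      have h2 := finrank_range_le_card (R := F) ![x, X₁ *ᵥ φ]
      rw [finrank_top, Module.finrank_fin_fun] at h
      rw [Fintype.card_fin] at h2
      have : a ≤ 2 := le_trans h h2
      omega
    obtain ⟨y, hy⟩ := exists_dot_one hξ0
    obtain ⟨z, hz⟩ := hDu
    have h0 : D *ᵥ σ y = 0 := by rw [← hz, pl_apply, pure_mulVec, (hσ y).2, zero_smul]
    rw [hD, add_mulVec, pure_mulVec, pure_mulVec, neg_dotProduct, hsφ, hy, ← dotProduct_mulVec, hX1,
      add_mulVec, pure_mulVec, ← dotProduct_mulVec, neg_smul, one_smul] at h0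
    refine ⟨ξ ⬝ᵥ X *ᵥ σ y - ξ ⬝ᵥ X *ᵥ φ, ?_⟩
    linear_combination (norm := module) -h0
  have hfinal : W ≤ T ⊔ F ∙ w := by
    intro X hX
    obtain ⟨c, hc⟩ := exists_scalar_of_eigen (X.mulVecLin ∘ₗ σ) (heig X hX)
    have hY : X - c • w ∈ LinearMap.range (pl a u) := by
      refine mem_pl_of_kill hu fun ψ hψ => ?_
      have := hc (w *ᵥ ψ)
      rw [LinearMap.comp_apply, hσw ψ hψ, mulVecLin_apply] at this
      rw [sub_mulVec, smul_mulVec, this, sub_self]
    exact Submodule.mem_sup.2 ⟨X - c • w, ⟨W.sub_mem hX (W.smul_mem c hw), hY⟩, c • w,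
      Submodule.mem_span_singleton.2 ⟨c, rfl⟩, sub_add_cancel _ _⟩
  have := Submodule.finrank_mono hfinal
  rw [finrank_sup_line T fun h => hwu h.2, hTk, hWdef, finrank_wsub g hv] at this
  omega

end Steps

/-- The tensor stabiliser is maximal in `SL`. -/
theorem isMaximalIn_tensorSL (ha : 2 ≤ a) (hab : a < b) (hb : 3 ≤ b)
    (hex : 3 ≤ a ∨ ∃ t : F, t ≠ 0 ∧ t ≠ 1) :
    Cfsg.Geo.IsMaximalIn (Cfsg.Geo.specialLinear (Fin a × Fin b) F) (tensorSL a b F) := by
  classical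
  refine ⟨lt_of_le_of_ne inf_le_right fun he => ?_, fun M hNM hMS => ?_⟩
  · let p : Fin a × Fin b := (⟨0, by omega⟩, ⟨0, by omega⟩)
    let r : Fin a × Fin b := (⟨1, by omega⟩, ⟨1, by omega⟩)
    have hpr : p ≠ r := by simp [p, r]
    have hd : (Pi.single r (1 : F) : Fin a × Fin b → F) ⬝ᵥ Pi.single p 1 = 0 := by
      rw [single_dotProduct, Pi.single_eq_of_ne hpr.symm, mul_zero]
    have hm : FormMax.Tr (Pi.single p 1) (Pi.single r 1) hd ∈ tensorSL a b F :=
      he ▸ FormMax.Tr_mem_SL _ _ hd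
    obtain ⟨A, B, hAB⟩ := hm.1
    have hent : ∀ x y : Fin a × Fin b,
        (1 + vecMulVec (Pi.single p (1 : F)) (Pi.single r 1) : Matrix _ _ F) x y =
        (A : Matrix (Fin a) (Fin a) F) x.1 y.1 * (B : Matrix (Fin b) (Fin b) F) x.2 y.2 :=
      fun x y => (congrFun (congrFun hAB x) y).trans (kroneckerMap_apply _ _ _ _ _)
    have hpne : p ≠ (r.1, p.2) := by simp [p, r]
    have hrne : r ≠ (r.1, p.2) := by simp [p, r]
    have e1 := hent p r
    have e2 := hent p (r.1, p.2)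
    have e3 := hent p p
    simp only [Matrix.add_apply, Matrix.one_apply, vecMulVec_apply, Pi.single_eq_same, if_true,
      if_neg hpr, if_neg hpne, Pi.single_eq_of_ne hpr, Pi.single_eq_of_ne hrne.symm, zero_add, mul_zero,
      add_zero, mul_one] at e1 e2 e3
    rcases mul_eq_zero.1 e2.symm with h | h
    · rw [h, zero_mul] at e1; exact one_ne_zero e1
    · rw [h, mul_zero] at e3; exact one_ne_zero e3
  by_cases hMN : M ≤ tensorSL a b F
  · exact Or.inl (le_antisymm hMN hNM)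
  obtain ⟨g, hg, hgN⟩ := SetLike.not_le_iff_exists.mp hMN
  obtain ⟨u, γ, hu, hR, hns⟩ := hasRad_of_not_kron hNM ha hab hg fun h => hgN ⟨h, hMS hg⟩
  exact Or.inr (eq_SL_of_rad hNM ha hb hex hMS hu hR hns)

end Cfsg.Agent.Lib.TensorMax
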