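import Cfsg.Agent.Lib.SubfieldMax.LinearTools
import Mathlib.LinearAlgebra.Matrix.Kronecker

/-!
Linear maps of `F^a ⊗ F^b` seen as maps of `a × b` matrices; the transvection tensors.
-/

set_option autoImplicit false
set_option linter.unusedSectionVars false

namespace Cfsg.Agent.Lib.TensorMax

open Matrix Cfsg.Agent.Lib
open scoped Kronecker

variable {F : Type*} [Field F] {a b : ℕ}

/-- The action of a matrix on `a × b` matrices. -/
def op (g : GL (Fin a × Fin b) F) : Matrix (Fin a) (Fin b) F →ₗ[F] Matrix (Fin a) (Fin b) F where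
  toFun X := Matrix.of fun i j =>
    ((g : Matrix (Fin a × Fin b) (Fin a × Fin b) F) *ᵥ fun p => X p.1 p.2) (i, j)
  map_add' X Y := by
    ext i j
    simp only [Matrix.of_apply, Matrix.add_apply]
    rw [show (fun p : Fin a × Fin b => X p.1 p.2 + Y p.1 p.2) =
      (fun p => X p.1 p.2) + (fun p => Y p.1 p.2) from rfl, mulVec_add, Pi.add_apply]
  map_smul' c X := by
    ext i j
    simp only [Matrix.of_apply, Matrix.smul_apply, RingHom.id_apply]
    rw [show (fun p : Fin a × Fin b => c • X p.1 p.2) = c • (fun p => X p.1 p.2) from rfl,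
      mulVec_smul, Pi.smul_apply]

theorem op_mul (g h : GL (Fin a × Fin b) F) (X : Matrix (Fin a) (Fin b) F) :
    op (g * h) X = op g (op h X) := by
  ext i j
  show ((g * h : GL (Fin a × Fin b) F) : Matrix (Fin a × Fin b) (Fin a × Fin b) F).mulVec _ (i, j) = _
  rw [Units.val_mul, ← mulVec_mulVec]
  rfl

theorem op_one (X : Matrix (Fin a) (Fin b) F) : op (1 : GL (Fin a × Fin b) F) X = X := by
  ext i j
  simp [op]

theorem op_inv_op (g : GL (Fin a × Fin b) F) (X : Matrix (Fin a) (Fin b) F) : op g⁻¹ (op g X) = X := by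
  rw [← op_mul, inv_mul_cancel, op_one]

theorem op_op_inv (g : GL (Fin a × Fin b) F) (X : Matrix (Fin a) (Fin b) F) : op g (op g⁻¹ X) = X := by
  rw [← op_mul, mul_inv_cancel, op_one]

theorem op_injective (g : GL (Fin a × Fin b) F) : Function.Injective (op g) :=
  Function.LeftInverse.injective (op_inv_op g)

theorem ext_op {g h : GL (Fin a × Fin b) F} (e : ∀ X, op g X = op h X) : g = h := by
  refine FormMax.gl_ext fun v => funext fun p => ?_
  have := congrFun (congrFun (e (Matrix.of fun i j => v (i, j))) p.1) p.2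
  simpa [op] using this

/-- The action of a Kronecker product. -/
theorem op_kron {g : GL (Fin a × Fin b) F} {A : Matrix (Fin a) (Fin a) F}
    {B : Matrix (Fin b) (Fin b) F} (hg : (g : Matrix (Fin a × Fin b) (Fin a × Fin b) F) = A ⊗ₖ B)
    (X : Matrix (Fin a) (Fin b) F) : op g X = A * X * Bᵀ := by
  ext i j
  show ((g : Matrix (Fin a × Fin b) (Fin a × Fin b) F) *ᵥ _) (i, j) = _
  rw [hg]
  simp only [mulVec, dotProduct, kroneckerMap_apply, Fintype.sum_prod_type, Matrix.mul_apply,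
    Matrix.transpose_apply, Finset.sum_mul]
  rw [Finset.sum_comm]
  exact Finset.sum_congr rfl fun k _ => Finset.sum_congr rfl fun l _ => by ring

theorem pure_mulVec (x : Fin a → F) (v φ : Fin b → F) :
    vecMulVec x v *ᵥ φ = (v ⬝ᵥ φ) • x := by
  ext i
  simp only [mulVec, dotProduct, vecMulVec_apply, Pi.smul_apply, smul_eq_mul, Finset.sum_mul]
  exact Finset.sum_congr rfl fun k _ => by ring

theorem vecMul_pure (ξ x : Fin a → F) (v : Fin b → F) :
    ξ ᵥ* vecMulVec x v = (ξ ⬝ᵥ x) • v :=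
  vecMul_vecMulVec ξ x v

theorem pure_add_left (x y : Fin a → F) (v : Fin b → F) :
    vecMulVec (x + y) v = vecMulVec x v + vecMulVec y v := by
  ext i j; simp [vecMulVec_apply, add_mul]

theorem pure_add_right (x : Fin a → F) (v w : Fin b → F) :
    vecMulVec x (v + w) = vecMulVec x v + vecMulVec x w := by
  ext i j; simp [vecMulVec_apply, mul_add]

theorem pure_smul_left (c : F) (x : Fin a → F) (v : Fin b → F) :
    vecMulVec (c • x) v = c • vecMulVec x v := by
  ext i j; simp [vecMulVec_apply, mul_assoc]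

theorem pure_smul_right (c : F) (x : Fin a → F) (v : Fin b → F) :
    vecMulVec x (c • v) = c • vecMulVec x v := by
  ext i j; simp [vecMulVec_apply, mul_left_comm]

theorem pure_neg_left (x : Fin a → F) (v : Fin b → F) :
    vecMulVec (-x) v = -vecMulVec x v := by
  ext i j; simp [vecMulVec_apply]

theorem pure_zero_left (v : Fin b → F) : vecMulVec (0 : Fin a → F) v = 0 := by
  ext i j; simp [vecMulVec_apply]

theorem pure_zero_right (x : Fin a → F) : vecMulVec x (0 : Fin b → F) = 0 := by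
  ext i j; simp [vecMulVec_apply]

/-- The space of pure tensors with second factor `v`. -/
def pl (a : ℕ) (v : Fin b → F) : (Fin a → F) →ₗ[F] Matrix (Fin a) (Fin b) F where
  toFun x := vecMulVec x v
  map_add' x y := pure_add_left x y v
  map_smul' c x := pure_smul_left c x v

theorem pl_apply (v : Fin b → F) (x : Fin a → F) : pl a v x = vecMulVec x v := rfl

theorem exists_dot_of_dual {m : ℕ} (f : Module.Dual F (Fin m → F)) :
    ∃ φ : Fin m → F, ∀ v, v ⬝ᵥ φ = f v := by
  refine ⟨fun k => f (Pi.single k 1), fun v => ?_⟩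
  conv_rhs => rw [pi_eq_sum_univ' v, map_sum]
  simp only [map_smul, smul_eq_mul, dotProduct]

/-- A covector separating a point from a subspace. -/
theorem exists_sep {m : ℕ} {T : Submodule F (Fin m → F)} {x : Fin m → F} (hx : x ∉ T) :
    ∃ φ : Fin m → F, (∀ w ∈ T, w ⬝ᵥ φ = 0) ∧ x ⬝ᵥ φ = 1 := by
  obtain ⟨f, hfx, hfT⟩ := Submodule.exists_dual_map_eq_bot_of_notMem hx inferInstance
  obtain ⟨φ, hφ⟩ := exists_dot_of_dual f
  refine ⟨(f x)⁻¹ • φ, fun w hw => ?_, ?_⟩
  · have : f w ∈ T.map f := Submodule.mem_map_of_mem hw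
    rw [hfT, Submodule.mem_bot] at this
    rw [dotProduct_smul, hφ, this, smul_zero]
  · rw [dotProduct_smul, hφ, smul_eq_mul, inv_mul_cancel₀ hfx]

/-- A vector in a kernel, outside a small subspace. -/
theorem exists_ker_notMem {V W : Type*} [AddCommGroup V] [Module F V] [FiniteDimensional F V]
    [AddCommGroup W] [Module F W] [FiniteDimensional F W] (L : V →ₗ[F] W) (T : Submodule F V)
    (h : Module.finrank F W + Module.finrank F T < Module.finrank F V) :
    ∃ v, L v = 0 ∧ v ∉ T := by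
  by_contra hno
  push Not at hno
  have h1 := L.finrank_range_add_finrank_ker
  have h2 := Submodule.finrank_le (LinearMap.range L)
  have h3 := Submodule.finrank_mono (show LinearMap.ker L ≤ T from fun v hv => hno v hv)
  omega

/-- The covectors with prescribed zeros. -/
def dots {m j : ℕ} (u : Fin j → Fin m → F) : (Fin m → F) →ₗ[F] (Fin j → F) where
  toFun φ i := u i ⬝ᵥ φ
  map_add' x y := funext fun i => dotProduct_add _ _ _
  map_smul' c x := funext fun i => dotProduct_smul _ _ _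

/-- A covector killing few vectors, outside a small subspace. -/
theorem exists_perp {m j : ℕ} (u : Fin j → Fin m → F) (T : Submodule F (Fin m → F))
    (h : j + Module.finrank F T < m) : ∃ φ, (∀ i, u i ⬝ᵥ φ = 0) ∧ φ ∉ T := by
  obtain ⟨φ, h1, h2⟩ := exists_ker_notMem (dots u) T (by simpa using h)
  exact ⟨φ, fun i => congrFun h1 i, h2⟩

theorem exists_perp_ne {m j : ℕ} (u : Fin j → Fin m → F) (h : j < m) :
    ∃ φ, (∀ i, u i ⬝ᵥ φ = 0) ∧ φ ≠ 0 := by
  obtain ⟨φ, h1, h2⟩ := exists_perp u ⊥ (by simpa using h)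
  exact ⟨φ, h1, by simpa using h2⟩

/-- The Kronecker stabiliser in `SL`. -/
def tensorSL (a b : ℕ) (F : Type*) [Field F] : Subgroup (GL (Fin a × Fin b) F) :=
  Cfsg.Geo.kroneckerSubgroup a b F ⊓ Cfsg.Geo.specialLinear (Fin a × Fin b) F

theorem exists_kron_mem {A : GL (Fin a) F} {B : GL (Fin b) F}
    (hA : Matrix.det (A : Matrix (Fin a) (Fin a) F) = 1) (hB : Matrix.det (B : Matrix (Fin b) (Fin b) F) = 1) :
    ∃ g ∈ tensorSL a b F, ∀ X, op g X =
      (A : Matrix (Fin a) (Fin a) F) * X * (B : Matrix (Fin b) (Fin b) F)ᵀ := by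
  let g : GL (Fin a × Fin b) F :=
    ⟨(A : Matrix (Fin a) (Fin a) F) ⊗ₖ (B : Matrix (Fin b) (Fin b) F),
      ((A⁻¹ : GL (Fin a) F) : Matrix (Fin a) (Fin a) F) ⊗ₖ ((B⁻¹ : GL (Fin b) F) : Matrix (Fin b) (Fin b) F),
      by rw [← mul_kronecker_mul, Units.mul_inv, Units.mul_inv, one_kronecker_one],
      by rw [← mul_kronecker_mul, Units.inv_mul, Units.inv_mul, one_kronecker_one]⟩
  refine ⟨g, ⟨⟨A, B, rfl⟩, ?_⟩, fun X => op_kron rfl X⟩
  show Matrix.GeneralLinearGroup.det g = 1
  refine Units.ext ?_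
  show Matrix.det ((A : Matrix (Fin a) (Fin a) F) ⊗ₖ (B : Matrix (Fin b) (Fin b) F)) = 1
  rw [det_kronecker, hA, hB, one_pow, one_pow, one_mul]

theorem det_Tr {m : ℕ} (v c : Fin m → F) (h : c ⬝ᵥ v = 0) :
    Matrix.det (FormMax.Tr v c h : Matrix (Fin m) (Fin m) F) = 1 := by
  show Matrix.det (1 + vecMulVec v c) = 1
  rw [vecMulVec_eq Unit, det_one_add_replicateCol_mul_replicateRow, h, add_zero]

/-- `α ⊗ 1` for a transvection `α`. -/
theorem exists_TA (x ξ : Fin a → F) (h : ξ ⬝ᵥ x = 0) :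
    ∃ g ∈ tensorSL a b F, ∀ X, op g X = X + vecMulVec x (ξ ᵥ* X) := by
  obtain ⟨g, hg, hgX⟩ := exists_kron_mem (b := b) (A := FormMax.Tr x ξ h) (B := 1) (det_Tr x ξ h)
    (by simp)
  refine ⟨g, hg, fun X => (hgX X).trans ?_⟩
  show (1 + vecMulVec x ξ) * X * (1 : Matrix (Fin b) (Fin b) F)ᵀ = _
  rw [transpose_one, Matrix.mul_one, Matrix.add_mul, Matrix.one_mul, vecMulVec_mul]

/-- `1 ⊗ β` for a transvection `β`. -/
theorem exists_TB (φ v : Fin b → F) (h : v ⬝ᵥ φ = 0) :
    ∃ g ∈ tensorSL a b F, ∀ X, op g X = X + vecMulVec (X *ᵥ φ) v := by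
  have h' : φ ⬝ᵥ v = 0 := by rwa [dotProduct_comm]
  obtain ⟨g, hg, hgX⟩ := exists_kron_mem (a := a) (A := 1) (B := FormMax.Tr v φ h') (by simp) (det_Tr v φ h')
  refine ⟨g, hg, fun X => (hgX X).trans ?_⟩
  show (1 : Matrix (Fin a) (Fin a) F) * X * (1 + vecMulVec v φ)ᵀ = _
  rw [transpose_add, transpose_one, transpose_vecMulVec, Matrix.one_mul, Matrix.mul_add, Matrix.mul_one, mul_vecMulVec]

/-- An endomorphism fixing all lines is scalar. -/
theorem exists_scalar_of_eigen {V : Type*} [AddCommGroup V] [Module F V] (f : V →ₗ[F] V)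
    (h : ∀ v, ∃ c : F, f v = c • v) : ∃ c : F, ∀ v, f v = c • v := by
  by_cases h0 : ∀ v : V, v = 0
  · exact ⟨0, fun v => by rw [h0 v, map_zero, smul_zero]⟩
  push Not at h0
  obtain ⟨v0, hv0⟩ := h0
  obtain ⟨c0, hc0⟩ := h v0
  refine ⟨c0, fun v => ?_⟩
  obtain ⟨c, hc⟩ := h v
  obtain ⟨d, hd⟩ := h (v + v0)
  rw [map_add, hc, hc0, smul_add] at hd
  by_cases hl : ∃ t : F, v = t • v0
  · obtain ⟨t, rfl⟩ := hl
    rw [map_smul, hc0, smul_comm]
  push Not at hl
  have e : (c - d) • v = (d - c0) • v0 := by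
    rw [sub_smul, sub_smul]
    linear_combination (norm := module) hd
  by_cases hcd : c - d = 0
  · rw [hcd, zero_smul] at e
    rcases smul_eq_zero.mp e.symm with h1 | h1
    · rw [hc, sub_eq_zero.mp hcd, sub_eq_zero.mp h1]
    · exact absurd h1 hv0
  · refine absurd ?_ (hl ((c - d)⁻¹ * (d - c0)))
    rw [mul_smul, ← e, smul_smul, inv_mul_cancel₀ hcd, one_smul]

end Cfsg.Agent.Lib.TensorMax
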