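import Cfsg.Agent.Lib.TensorMax.Transvection

/-!
An element outside the tensor stabiliser produces a non-scalar radical element.
-/

set_option autoImplicit false
set_option linter.unusedSectionVars false

namespace Cfsg.Agent.Lib.TensorMax

open Matrix Cfsg.Agent.Lib
open scoped Kronecker

variable {F : Type*} [Field F] {a b : ℕ}

theorem kron_mulVec (A : Matrix (Fin a) (Fin a) F) (B : Matrix (Fin b) (Fin b) F)
    (X : Matrix (Fin a) (Fin b) F) (i : Fin a) (j : Fin b) :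
    ((A ⊗ₖ B) *ᵥ fun p => X p.1 p.2) (i, j) = (A * X * Bᵀ) i j := by
  simp only [mulVec, dotProduct, kroneckerMap_apply, Fintype.sum_prod_type, Matrix.mul_apply,
    Matrix.transpose_apply, Finset.sum_mul]
  rw [Finset.sum_comm]
  exact Finset.sum_congr rfl fun k _ => Finset.sum_congr rfl fun l _ => by ring

/-- The image of a space of pure tensors. -/
def wsub (g : GL (Fin a × Fin b) F) (v : Fin b → F) : Submodule F (Matrix (Fin a) (Fin b) F) :=
  LinearMap.range ((op g).comp (pl a v))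

/-- A space of pure tensors with common second factor. -/
def IsProd (W : Submodule F (Matrix (Fin a) (Fin b) F)) : Prop :=
  ∃ v : Fin b → F, v ≠ 0 ∧ W = LinearMap.range (pl a v)

theorem exists_dot_one {m : ℕ} {v : Fin m → F} (hv : v ≠ 0) : ∃ φ, v ⬝ᵥ φ = 1 := by
  obtain ⟨φ, -, h⟩ := exists_sep (T := ⊥) (x := v) (by simpa using hv)
  exact ⟨φ, h⟩

theorem pl_injective {v : Fin b → F} (hv : v ≠ 0) : Function.Injective (pl a v) := by
  intro x y h
  obtain ⟨φ, hφ⟩ := exists_dot_one hv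
  have := congrArg (fun Z => Z *ᵥ φ) h
  simpa [pl_apply, pure_mulVec, hφ] using this

theorem finrank_range_pl {v : Fin b → F} (hv : v ≠ 0) :
    Module.finrank F (LinearMap.range (pl a v)) = a := by
  rw [LinearMap.finrank_range_of_inj (pl_injective hv), Module.finrank_fin_fun]

theorem finrank_wsub (g : GL (Fin a × Fin b) F) {v : Fin b → F} (hv : v ≠ 0) :
    Module.finrank F (wsub g v) = a := by
  rw [wsub, LinearMap.finrank_range_of_inj (show Function.Injective ((op g).comp (pl a v)) from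
    fun x y h => pl_injective hv (op_injective g h)), Module.finrank_fin_fun]

theorem mem_wsub {g : GL (Fin a × Fin b) F} {v : Fin b → F} {X : Matrix (Fin a) (Fin b) F} :
    X ∈ wsub g v ↔ ∃ x, op g (vecMulVec x v) = X := Iff.rfl

/-- Two pure spaces with a common non-zero point are equal. -/
theorem range_pl_eq {u v : Fin b → F} (hv : v ≠ 0) {X : Matrix (Fin a) (Fin b) F} (hX : X ≠ 0)
    (hu' : X ∈ LinearMap.range (pl a u)) (hv' : X ∈ LinearMap.range (pl a v)) :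
    LinearMap.range (pl a v) = LinearMap.range (pl a u) := by
  obtain ⟨x, rfl⟩ := hu'
  obtain ⟨y, hy⟩ := hv'
  rw [pl_apply, pl_apply] at hy
  rw [pl_apply] at hX
  have hy0 : y ≠ 0 := fun e => hX (by rw [← hy, e, pure_zero_left])
  obtain ⟨η, hη⟩ := exists_dot_one hy0
  have e := congrArg (fun Z => η ᵥ* Z) hy
  simp only [vecMul_pure] at e
  rw [dotProduct_comm, hη, one_smul] at e
  have hs : η ⬝ᵥ x ≠ 0 := fun h0 => hv (by rw [e, h0, zero_smul])
  refine le_antisymm ?_ ?_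
  · rintro _ ⟨z, rfl⟩
    exact ⟨(η ⬝ᵥ x) • z, by rw [pl_apply, pl_apply, e, pure_smul_left, pure_smul_right]⟩
  · rintro _ ⟨z, rfl⟩
    exact ⟨(η ⬝ᵥ x)⁻¹ • z, by
      rw [pl_apply, pl_apply, e, pure_smul_left, pure_smul_right, smul_smul, inv_mul_cancel₀ hs, one_smul]⟩

/-- A matrix killed by the orthogonal of `u` is `z ⊗ u`. -/
theorem mem_pl_of_kill {u : Fin b → F} (hu : u ≠ 0) {Y : Matrix (Fin a) (Fin b) F}
    (h : ∀ ψ, u ⬝ᵥ ψ = 0 → Y *ᵥ ψ = 0) : Y ∈ LinearMap.range (pl a u) := by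
  obtain ⟨φ, hφ⟩ := exists_dot_one hu
  refine ⟨Y *ᵥ φ, ?_⟩
  refine Matrix.ext_iff_mulVec.2 fun ψ => ?_
  have := h (ψ - (u ⬝ᵥ ψ) • φ) (by rw [dotProduct_sub, dotProduct_smul, hφ, smul_eq_mul, mul_one, sub_self])
  rw [mulVec_sub, mulVec_smul, sub_eq_zero] at this
  rw [pl_apply, pure_mulVec, this]

/-- An element mapping the pure spaces at `e_j` and at `e_{j₀} + e_j` to pure spaces is a Kronecker
product. -/
theorem mem_kron_of_prod' (ha : 1 ≤ a) (g : GL (Fin a × Fin b) F) (j₀ : Fin b)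
    (h₁ : ∀ j : Fin b, IsProd (wsub g (Pi.single j 1)))
    (h₂ : ∀ j : Fin b, j ≠ j₀ → IsProd (wsub g (Pi.single j₀ 1 + Pi.single j 1))) :
    g ∈ Cfsg.Geo.kroneckerSubgroup a b F := by
  classical
  have hb : 1 ≤ b := j₀.pos
  have he : ∀ j : Fin b, (Pi.single j (1 : F) : Fin b → F) ≠ 0 := fun j => by simp
  choose f hf hfW using fun j => h₁ j
  obtain ⟨φ₀, hφ₀⟩ := exists_dot_one (hf j₀)
  let α₀ : (Fin a → F) →ₗ[F] (Fin a → F) := contr a φ₀ ∘ₗ op g ∘ₗ pl a (Pi.single j₀ 1)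
  have hα₀ : ∀ x, op g (vecMulVec x (Pi.single j₀ 1)) = vecMulVec (α₀ x) (f j₀) := fun x => by
    obtain ⟨y, hy⟩ := hfW j₀ ▸ (mem_wsub.2 ⟨x, rfl⟩ : op g (vecMulVec x (Pi.single j₀ 1)) ∈ wsub g _)
    have : α₀ x = y := by
      show op g (vecMulVec x (Pi.single j₀ 1)) *ᵥ φ₀ = y
      rw [← hy, pl_apply, pure_mulVec, hφ₀, one_smul]
    rw [this, ← hy, pl_apply]
  obtain ⟨x₁, hx₁⟩ : ∃ x : Fin a → F, x ≠ 0 := ⟨Pi.single ⟨0, ha⟩ 1, by simp⟩
  have hcol : ∀ j, ∃ d : Fin b → F, ∀ x, op g (vecMulVec x (Pi.single j 1)) = vecMulVec (α₀ x) d := by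
    intro j
    by_cases hj : j = j₀
    · exact ⟨f j₀, fun x => hj ▸ hα₀ x⟩
    have hind : f j ∉ F ∙ f j₀ := by
      intro e
      obtain ⟨t, ht⟩ := Submodule.mem_span_singleton.1 e
      have hX : pl a (f j) x₁ ≠ 0 := fun e0 => hx₁ (pl_injective (hf j) (by rw [e0, map_zero]))
      have hmem : pl a (f j) x₁ ∈ LinearMap.range (pl a (f j₀)) :=
        ⟨t • x₁, by rw [pl_apply, pl_apply, ← ht, pure_smul_left, pure_smul_right]⟩
      have heq := range_pl_eq (hf j) hX hmem ⟨x₁, rfl⟩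
      obtain ⟨y, hy⟩ : op g (vecMulVec x₁ (Pi.single j 1)) ∈ wsub g (Pi.single j₀ 1) := by
        rw [hfW j₀, ← heq, ← hfW j]; exact ⟨x₁, rfl⟩
      have h3 := op_injective g hy
      rw [pl_apply] at h3
      have h4 := congrArg (fun Z => Z *ᵥ (Pi.single j (1 : F) : Fin b → F)) h3
      simp only [pure_mulVec, single_dotProduct, Pi.single_eq_same, Pi.single_eq_of_ne (Ne.symm hj),
        mul_zero, mul_one, zero_smul, one_smul] at h4
      exact hx₁ h4.symm
    obtain ⟨φb, hb0, hb1⟩ := exists_sep hind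
    obtain ⟨φc, hc0, hc1⟩ := exists_sep (show f j₀ ∉ F ∙ f j from fun e => by
      obtain ⟨t, ht⟩ := Submodule.mem_span_singleton.1 e
      have ht0 : t ≠ 0 := fun e0 => hf j₀ (by rw [← ht, e0, zero_smul])
      exact hind (Submodule.mem_span_singleton.2 ⟨t⁻¹, by rw [← ht, smul_smul, inv_mul_cancel₀ ht0, one_smul]⟩))
    obtain ⟨w, -, hwW⟩ := h₂ j hj
    have hmain : ∀ x, ∃ y z, op g (vecMulVec x (Pi.single j 1)) = vecMulVec z (f j) ∧
        α₀ x = (w ⬝ᵥ φc) • y ∧ z = (w ⬝ᵥ φb) • y := by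
      intro x
      obtain ⟨z, hz⟩ : op g (vecMulVec x (Pi.single j 1)) ∈ LinearMap.range (pl a (f j)) :=
        hfW j ▸ ⟨x, rfl⟩
      obtain ⟨y, hy⟩ : op g (vecMulVec x (Pi.single j₀ 1 + Pi.single j 1)) ∈ LinearMap.range (pl a w) :=
        hwW ▸ ⟨x, rfl⟩
      rw [pure_add_right, map_add, hα₀, ← hz, pl_apply, pl_apply] at hy
      refine ⟨y, z, hz.symm, ?_, ?_⟩
      · have := congrArg (fun Z => Z *ᵥ φc) hy
        simp only [pure_mulVec, add_mulVec, hc1, hc0 _ (Submodule.mem_span_singleton_self _), one_smul,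
          zero_smul, add_zero] at this
        exact this.symm
      · have := congrArg (fun Z => Z *ᵥ φb) hy
        simp only [pure_mulVec, add_mulVec, hb1, hb0 _ (Submodule.mem_span_singleton_self _), one_smul,
          zero_smul, zero_add] at this
        exact this.symm
    have hwc : w ⬝ᵥ φc ≠ 0 := by
      intro e
      obtain ⟨y, z, -, hy, -⟩ := hmain x₁
      have hzero : op g (vecMulVec x₁ (Pi.single j₀ 1)) = 0 := by
        rw [hα₀, hy, e, zero_smul, pure_zero_left]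
      exact hx₁ (pl_injective (he j₀) (by
        rw [map_zero]; exact op_injective g (hzero.trans (map_zero _).symm)))
    refine ⟨((w ⬝ᵥ φb) * (w ⬝ᵥ φc)⁻¹) • f j, fun x => ?_⟩
    obtain ⟨y, z, hz, hy, hzy⟩ := hmain x
    rw [hz, hy, hzy, pure_smul_left, pure_smul_left, pure_smul_right, smul_smul]
    congr 1
    field_simp
  choose d hd using hcol
  let A : Matrix (Fin a) (Fin a) F := LinearMap.toMatrix' α₀
  let B : Matrix (Fin b) (Fin b) F := Matrix.of fun i j => d j i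
  have hop : ∀ X, op g X = A * X * Bᵀ := by
    intro X
    have hX : X = ∑ j, vecMulVec (fun i => X i j) (Pi.single j 1) := by
      ext p q
      simp [Matrix.sum_apply, vecMulVec_apply, Pi.single_apply]
    conv_lhs => rw [hX, map_sum]
    conv_rhs => rw [hX, Matrix.mul_sum, Matrix.sum_mul]
    refine Finset.sum_congr rfl fun j _ => ?_
    rw [hd, mul_vecMulVec, vecMulVec_mul, LinearMap.toMatrix'_mulVec]
    congr 1
    funext i
    simp [B, vecMul, dotProduct, Pi.single_apply]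
  have hmat : (g : Matrix (Fin a × Fin b) (Fin a × Fin b) F) = A ⊗ₖ B := by
    refine Matrix.ext_iff_mulVec.2 fun x => funext fun p => ?_
    have h1 := kron_mulVec A B (Matrix.of fun i j => x (i, j)) p.1 p.2
    rw [← hop] at h1
    exact h1.symm
  have hdet : Matrix.det (A ⊗ₖ B) ≠ 0 := hmat ▸ (Matrix.isUnit_iff_isUnit_det _ |>.1 g.isUnit).ne_zero
  rw [det_kronecker, Fintype.card_fin, Fintype.card_fin] at hdet
  obtain ⟨h1, h2⟩ := mul_ne_zero_iff.1 hdet
  refine ⟨Matrix.GeneralLinearGroup.mkOfDetNeZero A ?_, Matrix.GeneralLinearGroup.mkOfDetNeZero B ?_, hmat⟩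
  · exact fun e => h1 (by rw [e, zero_pow (by omega)])
  · exact fun e => h2 (by rw [e, zero_pow (by omega)])

/-- An element preserving the set of pure spaces is a Kronecker product. -/
theorem mem_kron_of_prod (ha : 1 ≤ a) (hb : 1 ≤ b) (g : GL (Fin a × Fin b) F)
    (h : ∀ v : Fin b → F, v ≠ 0 → IsProd (wsub g v)) : g ∈ Cfsg.Geo.kroneckerSubgroup a b F :=
  mem_kron_of_prod' ha g ⟨0, hb⟩ (fun j => h _ (by simp)) fun j hj => h _ fun e => by
    have := congrFun e j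
    simp [Pi.single_eq_of_ne hj] at this

variable {M : Subgroup (GL (Fin a × Fin b) F)}

/-- Some non-scalar radical element lies in `M`. -/
def HasRad (M : Subgroup (GL (Fin a × Fin b) F)) : Prop :=
  ∃ (u : Fin b → F) (γ : Matrix (Fin a) (Fin b) F →ₗ[F] (Fin a → F)),
    u ≠ 0 ∧ Rad M u γ ∧ ¬ ∃ ψ : Fin b → F, ∀ X, γ X = X *ᵥ ψ

section Steps

variable (hN : tensorSL a b F ≤ M)
include hN

/-- The commutator giving a radical element. -/
theorem rad_comm {u φ : Fin b → F} (hφ : u ⬝ᵥ φ = 0) {y : GL (Fin a × Fin b) F} (hy : y ∈ M)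
    {A : Matrix (Fin a) (Fin b) F →ₗ[F] Matrix (Fin a) (Fin b) F} (hyA : ∀ X, op y X = X + A X)
    (hAA : ∀ X, A (A X) = 0) (hAu : ∀ x, A (vecMulVec x u) = 0) :
    Rad M u (contr a φ ∘ₗ A) := by
  obtain ⟨t, ht, htX⟩ := exists_TB (a := a) φ u hφ
  refine ⟨fun x => by simp [hAu, contr_apply], t * y * t⁻¹ * y⁻¹,
    M.mul_mem (M.mul_mem (M.mul_mem (hN ht) hy) (M.inv_mem (hN ht))) (M.inv_mem hy), fun X => ?_⟩
  have hti : ∀ Z, op t⁻¹ Z = Z - vecMulVec (Z *ᵥ φ) u := fun Z => by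
    apply op_injective t
    rw [op_op_inv, htX, sub_mulVec, pure_mulVec, hφ, zero_smul, sub_zero]
    abel
  have hyi : ∀ Z, op y⁻¹ Z = Z - A Z := fun Z => by
    apply op_injective y
    rw [op_op_inv, hyA, map_sub, hAA, sub_zero]
    abel
  rw [op_mul, op_mul, op_mul, hyi, hti, hyA, map_sub, map_sub, hAA, hAu, htX]
  simp only [sub_zero, add_mulVec, sub_mulVec, pure_mulVec, hφ, zero_smul, LinearMap.comp_apply,
    contr_apply]
  ext i j
  simp only [Matrix.add_apply, Matrix.sub_apply, vecMulVec_apply, Pi.add_apply, Pi.sub_apply]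
  ring

/-- An image of a pure space inside `A ⊗ H`, not itself pure, gives a radical element. -/
theorem hasRad_of_killed (hb : 2 ≤ b) {g : GL (Fin a × Fin b) F} (hg : g ∈ M) {v φ : Fin b → F}
    (ha : 1 ≤ a) (hv : v ≠ 0) (hφ : φ ≠ 0) (hW : ¬ IsProd (wsub g v))
    (hkill : ∀ X ∈ wsub g v, X *ᵥ φ = 0) : HasRad M := by
  classical
  by_contra hno
  let A : (Fin b → F) → (Matrix (Fin a) (Fin b) F →ₗ[F] Matrix (Fin a) (Fin b) F) :=
    fun v' => op g⁻¹ ∘ₗ pl a v' ∘ₗ contr a φ ∘ₗ op g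
  have hA : ∀ v' X, A v' X = op g⁻¹ (vecMulVec (op g X *ᵥ φ) v') := fun v' X => rfl
  have hscal : ∀ v', v' ⬝ᵥ φ = 0 → ∀ φ'' : Fin b → F, v ⬝ᵥ φ'' = 0 →
      ∃ ψ : Fin b → F, ∀ X, A v' X *ᵥ φ'' = X *ᵥ ψ := by
    intro v' hv' φ'' hφ''
    obtain ⟨t, ht, htX⟩ := exists_TB (a := a) φ v' hv'
    have hy : g⁻¹ * t * g ∈ M := M.mul_mem (M.mul_mem (M.inv_mem hg) (hN ht)) hg
    have h := rad_comm hN hφ'' hy (A := A v')
      (fun X => by rw [op_mul, op_mul, htX, map_add, op_inv_op, hA])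
      (fun X => by rw [hA, hA, op_op_inv, pure_mulVec, hv', zero_smul, pure_zero_left, map_zero])
      (fun x => by rw [hA, hkill _ (mem_wsub.2 ⟨x, rfl⟩), pure_zero_left, map_zero])
    by_contra hns
    exact hno ⟨v, _, hv, h, hns⟩
  have hPsur : ∀ m, ∃ X, op g X *ᵥ φ = m := fun m => by
    obtain ⟨c, hc⟩ := exists_dot_one hφ
    exact ⟨op g⁻¹ (vecMulVec m c), by rw [op_op_inv, pure_mulVec, dotProduct_comm, hc, one_smul]⟩
  have hnot : ∀ v' : Fin b → F, v' ≠ 0 →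
      ¬ ∀ m, op g⁻¹ (vecMulVec m v') ∈ LinearMap.range (pl a v) := by
    intro v' hv'0 hall
    refine hW ⟨v', hv'0, ?_⟩
    symm
    refine Submodule.eq_of_le_of_finrank_eq ?_ (by rw [finrank_wsub g hv, finrank_range_pl hv'0])
    rintro _ ⟨m, rfl⟩
    obtain ⟨x, hx⟩ := hall m
    exact mem_wsub.2 ⟨x, by rw [← pl_apply, hx, op_op_inv, pl_apply]⟩
  -- some `ψ` is non-zero
  obtain ⟨ψ₁, hψ₁, v₁, φ₁, hrel⟩ : ∃ ψ₁ : Fin b → F, ψ₁ ≠ 0 ∧ ∃ v₁ φ₁ : Fin b → F,
      ∀ X, A v₁ X *ᵥ φ₁ = X *ᵥ ψ₁ := by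
    by_contra hc
    obtain ⟨v', hv', hv'0⟩ := exists_perp_ne ![φ] (show 1 < b by omega)
    have hv'φ : v' ⬝ᵥ φ = 0 := (dotProduct_comm v' φ).trans (hv' 0)
    refine hnot v' hv'0 fun m => mem_pl_of_kill hv fun φ'' hφ'' => ?_
    obtain ⟨ψ, hψ⟩ := hscal v' hv'φ φ'' hφ''
    obtain ⟨X, hX⟩ := hPsur m
    have := hψ X
    rw [hA, hX] at this
    rw [this]
    by_cases hψ0 : ψ = 0
    · rw [hψ0, mulVec_zero]
    · exact absurd ⟨ψ, hψ0, v', φ'', hψ⟩ hc
  obtain ⟨c₁, hc₁⟩ := exists_dot_one hψ₁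
  rw [dotProduct_comm] at hc₁
  let P : Matrix (Fin a) (Fin b) F →ₗ[F] (Fin a → F) := contr a φ ∘ₗ op g
  let R : Matrix (Fin a) (Fin b) F →ₗ[F] (Fin a → F) := contr a ψ₁
  have hRsur : LinearMap.range R = ⊤ := LinearMap.range_eq_top.2 fun m =>
    ⟨vecMulVec m c₁, by show vecMulVec m c₁ *ᵥ ψ₁ = m; rw [pure_mulVec, hc₁, one_smul]⟩
  have hkerle : LinearMap.ker P ≤ LinearMap.ker R := fun X hX => by
    have hX' : op g X *ᵥ φ = 0 := hX
    show X *ᵥ ψ₁ = 0
    rw [← hrel, hA, hX', pure_zero_left, map_zero, zero_mulVec]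
  have hker : LinearMap.ker P = LinearMap.ker R := by
    refine Submodule.eq_of_le_of_finrank_eq hkerle ?_
    have h1 := P.finrank_range_add_finrank_ker
    have h2 := R.finrank_range_add_finrank_ker
    rw [LinearMap.range_eq_top.2 (show Function.Surjective P from hPsur)] at h1
    rw [hRsur] at h2
    omega
  let α : (Fin a → F) →ₗ[F] (Fin a → F) := P ∘ₗ pl a c₁
  have hPR : ∀ X, op g X *ᵥ φ = α (X *ᵥ ψ₁) := by
    intro X
    have h : X - vecMulVec (X *ᵥ ψ₁) c₁ ∈ LinearMap.ker R := by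
      show (X - vecMulVec (X *ᵥ ψ₁) c₁) *ᵥ ψ₁ = 0
      rw [sub_mulVec, pure_mulVec, hc₁, one_smul, sub_self]
    rw [← hker, LinearMap.mem_ker, map_sub, sub_eq_zero] at h
    exact h
  have hαsur : Function.Surjective α := fun m => by
    obtain ⟨X, hX⟩ := hPsur m
    exact ⟨X *ᵥ ψ₁, (hPR X).symm.trans hX⟩
  have hvψ : v ⬝ᵥ ψ₁ = 0 := by
    obtain ⟨x, hx⟩ : ∃ x : Fin a → F, x ≠ 0 := ⟨Pi.single ⟨0, ha⟩ 1, by simp⟩
    have h : vecMulVec x v ∈ LinearMap.ker R := hkerle (hkill _ (mem_wsub.2 ⟨x, rfl⟩))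
    have h' : vecMulVec x v *ᵥ ψ₁ = 0 := h
    rw [pure_mulVec] at h'
    exact (smul_eq_zero.1 h').resolve_right hx
  -- the induced map on second factors
  obtain ⟨x₀, hx₀⟩ : ∃ x : Fin a → F, x ≠ 0 := ⟨Pi.single ⟨0, ha⟩ 1, by simp⟩
  obtain ⟨ξ₀, hξ₀⟩ := exists_dot_one hx₀
  rw [dotProduct_comm] at hξ₀
  let σ : (Fin b → F) →ₗ[F] (Fin b → F) :=
    { toFun := fun v' => ξ₀ ᵥ* op g⁻¹ (vecMulVec (α x₀) v')
      map_add' := fun p q => by rw [pure_add_right, map_add, vecMul_add]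
      map_smul' := fun t p => by rw [pure_smul_right, map_smul, vecMul_smul, RingHom.id_apply] }
  let L₀ : ((Fin b → F) × F) →ₗ[F] (Fin b → F) :=
    σ ∘ₗ LinearMap.fst F (Fin b → F) F -
      (LinearMap.toSpanSingleton F (Fin b → F) v) ∘ₗ LinearMap.snd F (Fin b → F) F
  let L : ((Fin b → F) × F) →ₗ[F] (Fin 2 → F) :=
    { toFun := fun p => ![p.1 ⬝ᵥ φ, (L₀ p) ⬝ᵥ ψ₁]
      map_add' := fun p q => by simp [map_add, add_dotProduct]
      map_smul' := fun t p => by simp [map_smul, smul_dotProduct] }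
  obtain ⟨⟨v', t⟩, hker', hne⟩ : ∃ p : (Fin b → F) × F, L₀ p = 0 ∧ p.1 ⬝ᵥ φ = 0 ∧ p ≠ 0 := by
    let K₁ : Submodule F (Fin b → F) := LinearMap.ker (dots ![ψ₁])
    let K₂ : Submodule F ((Fin b → F) × F) :=
      LinearMap.ker ((dots ![φ]).comp (LinearMap.fst F (Fin b → F) F))
    have hmem : ∀ p ∈ K₂, L₀ p ∈ K₁ := by
      intro p hp
      have hp0 : p.1 ⬝ᵥ φ = 0 := (dotProduct_comm p.1 φ).trans (congrFun hp 0)
      show dots ![ψ₁] (L₀ p) = 0
      funext i
      fin_cases i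
      show ψ₁ ⬝ᵥ (ξ₀ ᵥ* op g⁻¹ (vecMulVec (α x₀) p.1) - p.2 • v) = 0
      have hz : op g⁻¹ (vecMulVec (α x₀) p.1) *ᵥ ψ₁ = 0 := by
        have h : op g⁻¹ (vecMulVec (α x₀) p.1) ∈ LinearMap.ker P := by
          show op g (op g⁻¹ (vecMulVec (α x₀) p.1)) *ᵥ φ = 0
          rw [op_op_inv, pure_mulVec, hp0, zero_smul]
        exact hkerle h
      rw [dotProduct_comm, sub_dotProduct, ← dotProduct_mulVec, hz, dotProduct_zero, smul_dotProduct, hvψ,
        smul_zero, sub_zero]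
    have hK1 : Module.finrank F K₁ < b := by
      have hlt : K₁ ≠ ⊤ := fun e => hψ₁ (by
        refine dotProduct_eq _ _ fun z => ?_
        have hz : z ∈ K₁ := e ▸ Submodule.mem_top
        rw [zero_dotProduct]
        exact congrFun hz 0)
      have := Submodule.finrank_lt hlt
      rwa [Module.finrank_fin_fun] at this
    have hK2 : b ≤ Module.finrank F K₂ := by
      have h1 := ((dots ![φ]).comp (LinearMap.fst F (Fin b → F) F)).finrank_range_add_finrank_ker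
      have h2 := Submodule.finrank_le (LinearMap.range ((dots ![φ]).comp (LinearMap.fst F (Fin b → F) F)))
      rw [Module.finrank_prod, Module.finrank_fin_fun, Module.finrank_self] at h1
      rw [Module.finrank_fin_fun] at h2
      show b ≤ Module.finrank F (LinearMap.ker _)
      omega
    obtain ⟨p, hp, hp0⟩ := exists_ker_notMem ((L₀.domRestrict K₂).codRestrict K₁ fun p => hmem p p.2) ⊥
      (by simp only [finrank_bot]; omega)
    exact ⟨p, congrArg Subtype.val hp, (dotProduct_comm _ φ).trans (congrFun p.2 0),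
      fun e => hp0 (by simpa using Subtype.ext_iff.2 e)⟩
  obtain ⟨hvφ, hpne⟩ := hne
  have hker'' : ξ₀ ᵥ* op g⁻¹ (vecMulVec (α x₀) v') = t • v := sub_eq_zero.1 hker'
  have hv'0 : v' ≠ 0 := by
    rintro rfl
    rw [pure_zero_right, map_zero, vecMul_zero] at hker''
    exact hpne (Prod.ext rfl ((smul_eq_zero.1 hker''.symm).resolve_right hv))
  refine hnot v' hv'0 fun m => mem_pl_of_kill hv fun φ'' hφ'' => ?_
  obtain ⟨x, rfl⟩ := hαsur m
  obtain ⟨ψ, hψ⟩ := hscal v' hvφ φ'' hφ''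
  have hY : ∀ z, op g⁻¹ (vecMulVec (α z) v') *ᵥ φ'' = (c₁ ⬝ᵥ ψ) • z := fun z => by
    have := hψ (vecMulVec z c₁)
    rw [hA, hPR, pure_mulVec, pure_mulVec, hc₁, one_smul] at this
    exact this
  have hlam : c₁ ⬝ᵥ ψ = 0 := by
    have h1 := congrArg (fun z => ξ₀ ⬝ᵥ z) (hY x₀)
    simp only [dotProduct_mulVec, hker'', smul_dotProduct, hφ'', smul_zero, dotProduct_smul, hξ₀,
      smul_eq_mul, mul_one] at h1
    simpa using h1.symm
  rw [hY, hlam, zero_smul]

end Steps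

end Cfsg.Agent.Lib.TensorMax
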