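import Cfsg.Agent.Lib.TensorMax.Basic

/-!
A non-scalar element of the radical of a pure-tensor space yields all transvections.
-/

set_option autoImplicit false
set_option linter.unusedSectionVars false

namespace Cfsg.Agent.Lib.TensorMax

open Matrix Cfsg.Agent.Lib

variable {F : Type*} [Field F] {a b : ℕ}

/-- `X ↦ X φ`. -/
def contr (a : ℕ) (φ : Fin b → F) : Matrix (Fin a) (Fin b) F →ₗ[F] (Fin a → F) where
  toFun X := X *ᵥ φ
  map_add' X Y := add_mulVec X Y φ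
  map_smul' c X := smul_mulVec c X φ

theorem contr_apply (φ : Fin b → F) (X : Matrix (Fin a) (Fin b) F) : contr a φ X = X *ᵥ φ := rfl

/-- `1 + γ ⊗ u` lies in `M`. -/
def Rad (M : Subgroup (GL (Fin a × Fin b) F)) (u : Fin b → F)
    (γ : Matrix (Fin a) (Fin b) F →ₗ[F] (Fin a → F)) : Prop :=
  (∀ x, γ (vecMulVec x u) = 0) ∧ ∃ g ∈ M, ∀ X, op g X = X + vecMulVec (γ X) u

variable {M : Subgroup (GL (Fin a × Fin b) F)} {u c : Fin b → F}
  {γ γ' : Matrix (Fin a) (Fin b) F →ₗ[F] (Fin a → F)}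

theorem Rad.congr (h : Rad M u γ) (e : ∀ X, γ X = γ' X) : Rad M u γ' :=
  (LinearMap.ext e : γ = γ') ▸ h

theorem Rad.add (h : Rad M u γ) (h' : Rad M u γ') : Rad M u (γ + γ') := by
  obtain ⟨h0, g, hg, hX⟩ := h
  obtain ⟨h0', g', hg', hX'⟩ := h'
  refine ⟨fun x => by simp [h0, h0'], g * g', M.mul_mem hg hg', fun X => ?_⟩
  rw [op_mul, hX', hX, map_add, h0, add_zero, LinearMap.add_apply, pure_add_left]
  abel

theorem Rad.neg (h : Rad M u γ) : Rad M u (-γ) := by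
  obtain ⟨h0, g, hg, hX⟩ := h
  refine ⟨fun x => by simp [h0], g⁻¹, M.inv_mem hg, fun X => ?_⟩
  apply op_injective g
  rw [op_op_inv, map_add, hX, hX, LinearMap.neg_apply, h0, pure_zero_left, add_zero, pure_neg_left]
  abel

theorem Rad.sub (h : Rad M u γ) (h' : Rad M u γ') : Rad M u (γ - γ') :=
  sub_eq_add_neg γ γ' ▸ h.add h'.neg

theorem rad_one (hN : tensorSL a b F ≤ M) {ψ : Fin b → F} (hψ : u ⬝ᵥ ψ = 0) :
    Rad M u (contr a ψ) := by
  obtain ⟨g, hg, hX⟩ := exists_TB (a := a) ψ u hψ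
  exact ⟨fun x => by rw [contr_apply, pure_mulVec, hψ, zero_smul], g, hN hg, hX⟩

theorem Rad.diffB (hN : tensorSL a b F ≤ M) {ψ d : Fin b → F} (hdψ : d ⬝ᵥ ψ = 0)
    (huψ : u ⬝ᵥ ψ = 0) (h : Rad M u γ) : Rad M u (γ ∘ₗ pl a d ∘ₗ contr a ψ) := by
  obtain ⟨t, ht, htX⟩ := exists_TB (a := a) ψ d hdψ
  obtain ⟨h0, g, hg, hX⟩ := id h
  have hti : ∀ X, op t⁻¹ X = X - vecMulVec (X *ᵥ ψ) d := fun X => by
    apply op_injective t
    rw [op_op_inv, htX, sub_mulVec, pure_mulVec, hdψ, zero_smul, sub_zero]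
    abel
  have h2 : Rad M u (γ - γ ∘ₗ pl a d ∘ₗ contr a ψ) := by
    refine ⟨fun x => ?_, t * g * t⁻¹, M.mul_mem (M.mul_mem (hN ht) hg) (M.inv_mem (hN ht)), fun X => ?_⟩
    · simp only [LinearMap.sub_apply, LinearMap.comp_apply, contr_apply, pl_apply, pure_mulVec, huψ,
        zero_smul, pure_zero_left, map_zero, h0, sub_zero]
    · rw [op_mul, op_mul, hti, hX, htX, add_mulVec, sub_mulVec, pure_mulVec, pure_mulVec, hdψ, huψ,
        zero_smul, zero_smul, sub_zero, add_zero, map_sub, LinearMap.sub_apply]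
      simp only [LinearMap.comp_apply, contr_apply, pl_apply]
      abel
  exact (h.sub h2).congr fun X => by simp

/-- `Z ⊗ ψ` is radical at `u` for every `ψ` orthogonal to `u` and `c`. -/
def InS (M : Subgroup (GL (Fin a × Fin b) F)) (u c : Fin b → F)
    (Z : (Fin a → F) →ₗ[F] (Fin a → F)) : Prop :=
  ∀ ψ, u ⬝ᵥ ψ = 0 → c ⬝ᵥ ψ = 0 → Rad M u (Z ∘ₗ contr a ψ)

variable {Z Z' : (Fin a → F) →ₗ[F] (Fin a → F)}

theorem InS.congr (h : InS M u c Z) (e : ∀ y, Z y = Z' y) : InS M u c Z' :=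
  (LinearMap.ext e : Z = Z') ▸ h

theorem InS.sub (h : InS M u c Z) (h' : InS M u c Z') : InS M u c (Z - Z') := fun ψ h1 h2 =>
  ((h ψ h1 h2).sub (h' ψ h1 h2)).congr fun X => by simp

theorem InS.smul (h : InS M u c Z) (t : F) : InS M u c (t • Z) := fun ψ h1 h2 =>
  (h (t • ψ) (by rw [dotProduct_smul, h1, smul_zero]) (by rw [dotProduct_smul, h2, smul_zero])).congr
    fun X => by simp [contr_apply, mulVec_smul]

/-- The change of `Z` under a transvection. -/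
def delta (x ξ : Fin a → F) (Z : (Fin a → F) →ₗ[F] (Fin a → F)) : (Fin a → F) →ₗ[F] (Fin a → F) where
  toFun y := (ξ ⬝ᵥ Z y) • x - (ξ ⬝ᵥ y) • Z x - ((ξ ⬝ᵥ y) * (ξ ⬝ᵥ Z x)) • x
  map_add' p q := by
    simp only [map_add, dotProduct_add]
    module
  map_smul' t p := by
    simp only [map_smul, dotProduct_smul, smul_eq_mul, RingHom.id_apply]
    module

theorem InS.delta (hN : tensorSL a b F ≤ M) {x ξ : Fin a → F} (hξ : ξ ⬝ᵥ x = 0) (h : InS M u c Z) :
    InS M u c (delta x ξ Z) := by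
  intro ψ h1 h2
  obtain ⟨h0, g, hg, hX⟩ := h ψ h1 h2
  obtain ⟨t, ht, htX⟩ := exists_TA (b := b) x ξ hξ
  have hti : ∀ X, op t⁻¹ X = X - vecMulVec x (ξ ᵥ* X) := fun X => by
    apply op_injective t
    rw [op_op_inv, htX, vecMul_sub, vecMul_pure, hξ, zero_smul, sub_zero]
    abel
  have h3 : Rad M u ((Z + TensorMax.delta x ξ Z) ∘ₗ contr a ψ) := by
    refine ⟨fun y => ?_, t * g * t⁻¹, M.mul_mem (M.mul_mem (hN ht) hg) (M.inv_mem (hN ht)), fun X => ?_⟩
    · simp [contr_apply, pure_mulVec, h1]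
    · have e : (X - vecMulVec x (ξ ᵥ* X)) *ᵥ ψ = X *ᵥ ψ - (ξ ⬝ᵥ (X *ᵥ ψ)) • x := by
        rw [sub_mulVec, pure_mulVec, dotProduct_mulVec]
      rw [op_mul, op_mul, hti, hX, htX, vecMul_add, vecMul_sub, vecMul_pure, vecMul_pure, hξ, zero_smul,
        sub_zero]
      simp only [LinearMap.comp_apply, contr_apply, e]
      simp only [map_sub, map_smul, LinearMap.add_apply]
      show _ = X + vecMulVec (Z (X *ᵥ ψ) + ((ξ ⬝ᵥ Z (X *ᵥ ψ)) • x - (ξ ⬝ᵥ (X *ᵥ ψ)) • Z x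
        - ((ξ ⬝ᵥ (X *ᵥ ψ)) * (ξ ⬝ᵥ Z x)) • x)) u
      simp only [dotProduct_sub, dotProduct_smul, smul_eq_mul]
      ext i j
      simp only [Matrix.add_apply, Matrix.sub_apply, vecMulVec_apply, Pi.add_apply, Pi.sub_apply,
        Pi.smul_apply, smul_eq_mul]
      ring
  exact (h3.sub (h ψ h1 h2)).congr fun X => by simp

/-- The map `y ↦ (η · y) z`. -/
def rk (z η : Fin a → F) : (Fin a → F) →ₗ[F] (Fin a → F) where
  toFun y := (η ⬝ᵥ y) • z
  map_add' p q := by rw [dotProduct_add, add_smul]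
  map_smul' t p := by rw [dotProduct_smul, smul_assoc, RingHom.id_apply]

theorem rk_apply (z η y : Fin a → F) : rk z η y = (η ⬝ᵥ y) • z := rfl

theorem exists_covec {m : ℕ} {T : Submodule F (Fin m → F)} {x : Fin m → F} (hx : x ∉ T) :
    ∃ φ : Fin m → F, (∀ w ∈ T, φ ⬝ᵥ w = 0) ∧ φ ⬝ᵥ x = 1 := by
  obtain ⟨φ, h1, h2⟩ := exists_sep hx
  exact ⟨φ, fun w hw => (dotProduct_comm φ w).trans (h1 w hw), (dotProduct_comm φ x).trans h2⟩

/-- A non-scalar map gives a transvection map. -/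
theorem InS.exists_rankOne (hN : tensorSL a b F ≤ M)
    (hex : 3 ≤ a ∨ ∃ t : F, t ≠ 0 ∧ t ≠ 1) (h : InS M u c Z)
    (hns : ∀ s : F, ∃ y, Z y ≠ s • y) :
    ∃ z η : Fin a → F, z ≠ 0 ∧ η ≠ 0 ∧ η ⬝ᵥ z = 0 ∧ InS M u c (rk z η) := by
  obtain ⟨x, hx⟩ : ∃ x, Z x ∉ F ∙ x := by
    by_contra hc
    push Not at hc
    obtain ⟨s, hs⟩ := exists_scalar_of_eigen Z fun v => by
      obtain ⟨r, hr⟩ := Submodule.mem_span_singleton.1 (hc v)
      exact ⟨r, hr.symm⟩
    obtain ⟨y, hy⟩ := hns s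
    exact hy (hs y)
  obtain ⟨ξ, hξ0, hξ1⟩ := exists_covec hx
  have hξx : ξ ⬝ᵥ x = 0 := hξ0 x (Submodule.mem_span_singleton_self x)
  have hx0 : x ≠ 0 := fun e => hx (by rw [e, map_zero]; exact Submodule.zero_mem _)
  have hξne : ξ ≠ 0 := fun e => by rw [e, zero_dotProduct] at hξ1; exact zero_ne_one hξ1
  have hd := h.delta hN hξx
  by_cases hq : ∃ t : F, t ≠ 0 ∧ t ≠ 1
  · obtain ⟨t, ht0, ht1⟩ := hq
    have h2 := (h.delta hN (x := t • x) (ξ := ξ) (by rw [dotProduct_smul, hξx, smul_zero])).sub (hd.smul t)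
    refine ⟨(t - t ^ 2) • x, ξ, ?_, hξne, by rw [dotProduct_smul, hξx, smul_zero], h2.congr fun y => ?_⟩
    · refine smul_ne_zero ?_ hx0
      rw [show t - t ^ 2 = t * (1 - t) by ring]
      exact mul_ne_zero ht0 (sub_ne_zero.2 (Ne.symm ht1))
    · simp only [LinearMap.sub_apply, LinearMap.smul_apply, TensorMax.delta, LinearMap.coe_mk, AddHom.coe_mk,
        map_smul, dotProduct_smul, smul_eq_mul, rk_apply, hξ1]
      module
  have ha : 3 ≤ a := hex.resolve_right hq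
  set Z1 := TensorMax.delta x ξ Z with hZ1
  have hZ1x : Z1 x = x := by
    show (ξ ⬝ᵥ Z x) • x - (ξ ⬝ᵥ x) • Z x - ((ξ ⬝ᵥ x) * (ξ ⬝ᵥ Z x)) • x = x
    rw [hξ1, hξx]; simp
  obtain ⟨L, hL⟩ : ∃ L : (Fin a → F) →ₗ[F] (Fin 2 → F), ∀ z, L z = ![ξ ⬝ᵥ z, ξ ⬝ᵥ Z z] :=
    ⟨{ toFun := fun z => ![ξ ⬝ᵥ z, ξ ⬝ᵥ Z z]
       map_add' := fun p q => by simp [dotProduct_add]
       map_smul' := fun t p => by simp [dotProduct_smul] }, fun _ => rfl⟩
  obtain ⟨z, hz, hz0⟩ := exists_ker_notMem L ⊥ (by simpa using (show 2 < a by omega))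
  rw [hL] at hz
  have hz1 : ξ ⬝ᵥ z = 0 := congrFun hz 0
  have hz2 : ξ ⬝ᵥ Z z = 0 := congrFun hz 1
  have hz0' : z ≠ 0 := by simpa using hz0
  have hxz : x ∉ F ∙ z := by
    intro e
    obtain ⟨s, hs⟩ := Submodule.mem_span_singleton.1 e
    rw [← hs, map_smul, dotProduct_smul, hz2, smul_zero] at hξ1
    exact zero_ne_one hξ1
  obtain ⟨ζ, hζ0, hζ1⟩ := exists_covec hxz
  have hζz : ζ ⬝ᵥ z = 0 := hζ0 z (Submodule.mem_span_singleton_self z)
  have hZ1z : Z1 z = 0 := by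
    show (ξ ⬝ᵥ Z z) • x - (ξ ⬝ᵥ z) • Z x - ((ξ ⬝ᵥ z) * (ξ ⬝ᵥ Z x)) • x = 0
    rw [hz1, hz2]; simp
  obtain ⟨η, hη⟩ := exists_dot_of_dual ((dotProductBilin F F ζ).comp Z1)
  have hη' : ∀ y, η ⬝ᵥ y = ζ ⬝ᵥ Z1 y := fun y => (dotProduct_comm η y).trans (hη y)
  refine ⟨z, η, hz0', fun e => ?_, by rw [hη', hZ1z, dotProduct_zero], (hd.delta hN hζz).congr fun y => ?_⟩
  · have := hη' x
    rw [e, zero_dotProduct, hZ1x, hζ1] at this
    exact zero_ne_one this
  · show (ζ ⬝ᵥ Z1 y) • z - (ζ ⬝ᵥ y) • Z1 z - ((ζ ⬝ᵥ y) * (ζ ⬝ᵥ Z1 z)) • z = (η ⬝ᵥ y) • z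
    rw [hZ1z, hη']; simp

section Pairs

variable (hN : tensorSL a b F ≤ M)
include hN

theorem rk_left {z η x : Fin a → F} (hz : z ≠ 0) (hηz : η ⬝ᵥ z = 0) (h : InS M u c (rk z η))
    (hx : η ⬝ᵥ x = 0) : InS M u c (rk x η) := by
  by_cases hxz : x ∈ F ∙ z
  · obtain ⟨t, rfl⟩ := Submodule.mem_span_singleton.1 hxz
    exact (h.smul t).congr fun y => by simp [rk_apply, smul_smul, mul_comm]
  obtain ⟨β, hβ0, hβ1⟩ := exists_covec (show z ∉ F ∙ x from fun e => by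
    obtain ⟨t, ht⟩ := Submodule.mem_span_singleton.1 e
    have ht0 : t ≠ 0 := fun e0 => hz (by rw [← ht, e0, zero_smul])
    exact hxz (Submodule.mem_span_singleton.2 ⟨t⁻¹, by rw [← ht, smul_smul, inv_mul_cancel₀ ht0, one_smul]⟩))
  have hd := h.delta hN (x := x) (ξ := β) (hβ0 x (Submodule.mem_span_singleton_self x))
  exact hd.congr fun y => by
    show (β ⬝ᵥ (η ⬝ᵥ y) • z) • x - (β ⬝ᵥ y) • ((η ⬝ᵥ x) • z) - _ = (η ⬝ᵥ y) • x
    simp [rk_apply, hx, hβ1]

theorem rk_right {z η ξ : Fin a → F} (hη : η ≠ 0) (hηz : η ⬝ᵥ z = 0) (h : InS M u c (rk z η))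
    (hξ : ξ ⬝ᵥ z = 0) : InS M u c (rk z ξ) := by
  by_cases hξη : ξ ∈ F ∙ η
  · obtain ⟨t, rfl⟩ := Submodule.mem_span_singleton.1 hξη
    exact (h.smul t).congr fun y => by simp [rk_apply, smul_smul]
  obtain ⟨r, hr0, hr1⟩ := exists_covec (show η ∉ F ∙ ξ from fun e => by
    obtain ⟨t, ht⟩ := Submodule.mem_span_singleton.1 e
    have ht0 : t ≠ 0 := fun e0 => hη (by rw [← ht, e0, zero_smul])
    exact hξη (Submodule.mem_span_singleton.2 ⟨t⁻¹, by rw [← ht, smul_smul, inv_mul_cancel₀ ht0, one_smul]⟩))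
  rw [dotProduct_comm] at hr1
  have hξr : ξ ⬝ᵥ r = 0 := (dotProduct_comm ξ r).trans (hr0 ξ (Submodule.mem_span_singleton_self ξ))
  have hd := (h.delta hN (x := r) (ξ := ξ) hξr).smul (-1 : F)
  exact hd.congr fun y => by
    simp [TensorMax.delta, rk_apply, hξ, hr1]

theorem rk_quad {z η r β : Fin a → F} {t : F} (ht0 : t ≠ 0) (ht1 : t ≠ 1) (h : InS M u c (rk z η))
    (hβr : β ⬝ᵥ r = 0) (hβz : β ⬝ᵥ z ≠ 0) (hηr : η ⬝ᵥ r ≠ 0) : InS M u c (rk r β) := by
  have h1 := h.delta hN (x := r) (ξ := β) hβr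
  have h2 := h.delta hN (x := t • r) (ξ := β) (by rw [dotProduct_smul, hβr, smul_zero])
  have h3 := (h2.sub (h1.smul t)).smul ((t - t ^ 2) * ((η ⬝ᵥ r) * (β ⬝ᵥ z)))⁻¹
  refine h3.congr fun y => ?_
  have hk : (t - t ^ 2) * ((η ⬝ᵥ r) * (β ⬝ᵥ z)) ≠ 0 := by
    refine mul_ne_zero ?_ (mul_ne_zero hηr hβz)
    rw [show t - t ^ 2 = t * (1 - t) by ring]
    exact mul_ne_zero ht0 (sub_ne_zero.2 (Ne.symm ht1))
  simp only [LinearMap.sub_apply, LinearMap.smul_apply, TensorMax.delta, LinearMap.coe_mk, AddHom.coe_mk,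
    rk_apply, dotProduct_smul, smul_eq_mul]
  match_scalars <;> field_simp [hk] <;> ring

theorem rk_all (ha2 : 2 ≤ a) (hex : 3 ≤ a ∨ ∃ t : F, t ≠ 0 ∧ t ≠ 1) {z η : Fin a → F}
    (hz : z ≠ 0) (hη : η ≠ 0) (hηz : η ⬝ᵥ z = 0) (h : InS M u c (rk z η)) {x ξ : Fin a → F}
    (hξx : ξ ⬝ᵥ x = 0) : InS M u c (rk x ξ) := by
  by_cases hx : x = 0
  · exact (h.smul 0).congr fun y => by simp [rk_apply, hx]
  by_cases hξ : ξ = 0
  · exact (h.smul 0).congr fun y => by simp [rk_apply, hξ]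
  by_cases ha : 3 ≤ a
  · obtain ⟨β, hβ, hβ0⟩ := exists_perp_ne ![z, x] (by omega : 2 < a)
    have hβz : β ⬝ᵥ z = 0 := (dotProduct_comm β z).trans (hβ 0)
    have hβx : β ⬝ᵥ x = 0 := (dotProduct_comm β x).trans (hβ 1)
    have h1 := rk_right hN hη hηz h hβz
    have h2 := rk_left hN hz hβz h1 hβx
    exact rk_right hN hβ0 hβx h2 hξx
  obtain ⟨t, ht0, ht1⟩ := hex.resolve_left ha
  have hd : ∀ φ : Fin a → F, ∀ p q : Fin a → F, p ≠ 0 → q ∉ F ∙ p → φ ⬝ᵥ p = 0 → φ ⬝ᵥ q = 0 → φ = 0 := by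
    intro φ p q hp hq h1 h2
    have hli : LinearIndependent F ![p, q] :=
      (LinearIndependent.pair_iff' hp).mpr fun s e => hq (Submodule.mem_span_singleton.2 ⟨s, e⟩)
    have htop : Submodule.span F (Set.range ![p, q]) = ⊤ :=
      hli.span_eq_top_of_card_eq_finrank (by simp; omega)
    refine dotProduct_eq _ _ fun y => ?_
    have hy : y ∈ Submodule.span F (Set.range ![p, q]) := htop ▸ Submodule.mem_top
    rw [zero_dotProduct]
    induction hy using Submodule.span_induction with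
    | mem y hy =>
      obtain ⟨i, rfl⟩ := hy
      fin_cases i <;> assumption
    | zero => simp
    | add p q _ _ h1 h2 => rw [dotProduct_add, h1, h2, add_zero]
    | smul s p _ h1 => rw [dotProduct_smul, h1, smul_zero]
  by_cases hxz : x ∈ F ∙ z
  · obtain ⟨s, rfl⟩ := Submodule.mem_span_singleton.1 hxz
    have hs : s ≠ 0 := fun e => hx (by rw [e, zero_smul])
    rw [dotProduct_smul, smul_eq_mul] at hξx
    have h1 := (rk_right hN hη hηz h ((mul_eq_zero.1 hξx).resolve_left hs)).smul s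
    exact h1.congr fun y => by simp [rk_apply, smul_smul, mul_comm]
  refine rk_quad hN ht0 ht1 h hξx (fun e => hξ (hd ξ z x hz hxz e hξx)) fun e => hη (hd η z x hz hxz hηz e)

end Pairs

/-- `X ↦ X + (ξ · Xψ) x ⊗ u` lies in `M`. -/
def In4 (M : Subgroup (GL (Fin a × Fin b) F)) (x ξ : Fin a → F) (u ψ : Fin b → F) : Prop :=
  ∃ g ∈ M, ∀ X, op g X = X + (ξ ⬝ᵥ (X *ᵥ ψ)) • vecMulVec x u

/-- All transvections with second data `(u, ψ)`. -/
def PairB (M : Subgroup (GL (Fin a × Fin b) F)) (u ψ : Fin b → F) : Prop :=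
  ∀ x ξ : Fin a → F, ξ ⬝ᵥ x = 0 → In4 M x ξ u ψ

theorem pairB_of_rk {ψ : Fin b → F} (huψ : u ⬝ᵥ ψ = 0) (hcψ : c ⬝ᵥ ψ = 0)
    (h : ∀ x ξ : Fin a → F, ξ ⬝ᵥ x = 0 → InS M u c (rk x ξ)) : PairB M u ψ := by
  intro x ξ hξx
  obtain ⟨-, g, hg, hX⟩ := h x ξ hξx ψ huψ hcψ
  refine ⟨g, hg, fun X => ?_⟩
  rw [hX, LinearMap.comp_apply, rk_apply, contr_apply, pure_smul_left]

theorem PairB.smul_u {ψ : Fin b → F} (h : PairB M u ψ) (t : F) : PairB M (t • u) ψ := by
  intro x ξ hξx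
  obtain ⟨g, hg, hX⟩ := h (t • x) ξ (by rw [dotProduct_smul, hξx, smul_zero])
  exact ⟨g, hg, fun X => by rw [hX, pure_smul_left, pure_smul_right]⟩

theorem PairB.smul_ψ {ψ : Fin b → F} (h : PairB M u ψ) (t : F) : PairB M u (t • ψ) := by
  intro x ξ hξx
  obtain ⟨g, hg, hX⟩ := h x (t • ξ) (by rw [smul_dotProduct, hξx, smul_zero])
  exact ⟨g, hg, fun X => by rw [hX, mulVec_smul, smul_dotProduct, dotProduct_smul]⟩

theorem PairB.add {ψ ψ' : Fin b → F} (huψ : u ⬝ᵥ ψ = 0) (h : PairB M u ψ) (h' : PairB M u ψ') :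
    PairB M u (ψ + ψ') := by
  intro x ξ hξx
  obtain ⟨g, hg, hX⟩ := h x ξ hξx
  obtain ⟨g', hg', hX'⟩ := h' x ξ hξx
  refine ⟨g * g', M.mul_mem hg hg', fun X => ?_⟩
  rw [op_mul, hX', hX, add_mulVec, smul_mulVec, pure_mulVec, huψ, zero_smul, smul_zero,
    add_zero, mulVec_add, dotProduct_add, add_smul]
  abel

theorem PairB.conjB (hN : tensorSL a b F ≤ M) {ψ φ s : Fin b → F} (hsφ : s ⬝ᵥ φ = 0)
    (h : PairB M u ψ) : PairB M (u + (u ⬝ᵥ φ) • s) (ψ - (s ⬝ᵥ ψ) • φ) := by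
  intro x ξ hξx
  obtain ⟨t, ht, htX⟩ := exists_TB (a := a) φ s hsφ
  obtain ⟨g, hg, hX⟩ := h x ξ hξx
  refine ⟨t * g * t⁻¹, M.mul_mem (M.mul_mem (hN ht) hg) (M.inv_mem (hN ht)), fun X => ?_⟩
  have hti : op t⁻¹ X = X - vecMulVec (X *ᵥ φ) s := by
    apply op_injective t
    rw [op_op_inv, htX, sub_mulVec, pure_mulVec, hsφ, zero_smul, sub_zero]
    abel
  rw [op_mul, op_mul, hti, hX, htX]
  simp only [add_mulVec, sub_mulVec, smul_mulVec, pure_mulVec, hsφ, zero_smul, sub_zero, pure_add_left,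
    pure_smul_left, mulVec_sub, mulVec_smul, dotProduct_sub, dotProduct_smul, pure_add_right,
    pure_smul_right]
  module

section Final

variable (hN : tensorSL a b F ≤ M)
include hN

theorem pairB_extend (hb : 3 ≤ b) (h : ∀ ψ, u ⬝ᵥ ψ = 0 → c ⬝ᵥ ψ = 0 → PairB M u ψ) :
    ∀ ψ, u ⬝ᵥ ψ = 0 → PairB M u ψ := by
  have key : ∀ s : Fin b → F, s ∉ Submodule.span F (Set.range ![u, c]) →
      ∀ φ, u ⬝ᵥ φ = 0 → s ⬝ᵥ φ = 0 → PairB M u φ := by
    intro s hs φ huφ hsφ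
    obtain ⟨ψ₀, h0, h1⟩ := exists_sep hs
    have hu0 : u ⬝ᵥ ψ₀ = 0 := h0 u (Submodule.subset_span ⟨0, rfl⟩)
    have hP := h ψ₀ hu0 (h0 c (Submodule.subset_span ⟨1, rfl⟩))
    have hc := hP.conjB hN hsφ
    rw [h1, one_smul, huφ, zero_smul, add_zero] at hc
    have := (hc.smul_ψ (-1 : F)).add (by rw [dotProduct_smul, dotProduct_sub, hu0, huφ]; simp) hP
    rwa [neg_one_smul, neg_sub, sub_add_cancel] at this
  intro ψ huψ
  have hdim : ∀ {j : ℕ} (f : Fin j → Fin b → F), j < b →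
      ∃ s, s ∉ Submodule.span F (Set.range f) := fun {j} f hj => by
    by_contra hc
    push Not at hc
    have h1 := Submodule.finrank_mono (show (⊤ : Submodule F (Fin b → F)) ≤ _ from fun s _ => hc s)
    have h2 := finrank_range_le_card (R := F) f
    rw [finrank_top, Module.finrank_fin_fun] at h1
    rw [Fintype.card_fin] at h2
    have : b ≤ j := le_trans h1 h2
    omega
  obtain ⟨s, hs⟩ := hdim ![u, c] (by omega)
  have hu2 : ∀ t : F, t • u ∈ Submodule.span F (Set.range ![u, c]) := fun t =>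
    Submodule.smul_mem _ _ (Submodule.subset_span ⟨0, rfl⟩)
  have hc2 : c ∈ Submodule.span F (Set.range ![u, c]) := Submodule.subset_span ⟨1, rfl⟩
  obtain ⟨s', hs'2, hs2⟩ : ∃ s', s' ∉ Submodule.span F (Set.range ![u, c]) ∧
      s ∉ Submodule.span F (Set.range ![u, s']) := by
    have hpair : ∀ {z : Fin b → F}, s ∈ Submodule.span F (Set.range ![u, z]) → ∃ p r : F, p • u + r • z = s := by
      intro z e
      rw [Matrix.range_cons, Matrix.range_cons, Matrix.range_empty, Set.union_empty, Set.singleton_union,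
        Submodule.mem_span_pair] at e
      exact e
    by_cases hcu : c ∈ F ∙ u
    · obtain ⟨s', hs'⟩ := hdim ![u, s] (by omega)
      refine ⟨s', fun e => hs' (Submodule.span_le.2 ?_ e), fun e => ?_⟩
      · rintro _ ⟨i, rfl⟩
        fin_cases i
        · exact Submodule.subset_span ⟨0, rfl⟩
        · obtain ⟨t, ht⟩ := Submodule.mem_span_singleton.1 hcu
          show c ∈ _
          rw [← ht]
          exact Submodule.smul_mem _ _ (Submodule.subset_span ⟨0, rfl⟩)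
      · obtain ⟨p, r, hpr⟩ := hpair e
        rcases eq_or_ne r 0 with rfl | hr
        · exact hs (by rw [← hpr, zero_smul, add_zero]; exact hu2 p)
        · refine hs' ?_
          have : s' = r⁻¹ • s - (r⁻¹ * p) • u := by
            rw [← hpr, smul_add, smul_smul, smul_smul, inv_mul_cancel₀ hr, one_smul]; abel
          rw [this]
          exact Submodule.sub_mem _ (Submodule.smul_mem _ _ (Submodule.subset_span ⟨1, rfl⟩))
            (Submodule.smul_mem _ _ (Submodule.subset_span ⟨0, rfl⟩))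
    · refine ⟨s + c, fun e => hs (by simpa using Submodule.sub_mem _ e hc2), fun e => ?_⟩
      obtain ⟨p, r, hpr⟩ := hpair e
      have h1 : (1 - r) • s = p • u + r • c := by
        linear_combination (norm := module) -hpr
      rcases eq_or_ne r 1 with rfl | hr
      · rw [sub_self, zero_smul, one_smul] at h1
        exact hcu (Submodule.mem_span_singleton.2 ⟨-p, by linear_combination (norm := module) h1⟩)
      · refine hs ?_
        have h2 : (1 - r) • s ∈ Submodule.span F (Set.range ![u, c]) :=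
          h1 ▸ Submodule.add_mem _ (hu2 p) (Submodule.smul_mem _ _ hc2)
        simpa [smul_smul, inv_mul_cancel₀ (sub_ne_zero.2 (Ne.symm hr))] using
          Submodule.smul_mem _ (1 - r)⁻¹ h2
  obtain ⟨ψ₁, h0, h1⟩ := exists_sep hs2
  have hu1 : u ⬝ᵥ ψ₁ = 0 := h0 u (Submodule.subset_span ⟨0, rfl⟩)
  have hA := key s hs (ψ - (s ⬝ᵥ ψ) • ψ₁) (by rw [dotProduct_sub, dotProduct_smul, huψ, hu1]; simp)
    (by rw [dotProduct_sub, dotProduct_smul, h1]; simp)
  have hB := (key s' hs'2 ψ₁ hu1 (h0 s' (Submodule.subset_span ⟨1, rfl⟩))).smul_ψ (s ⬝ᵥ ψ)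
  have := hA.add (by rw [dotProduct_sub, dotProduct_smul, huψ, hu1]; simp) hB
  rwa [sub_add_cancel] at this

theorem pairB_all (hb : 3 ≤ b) (hu : u ≠ 0) (h : ∀ ψ, u ⬝ᵥ ψ = 0 → PairB M u ψ) {u' ψ : Fin b → F}
    (huψ : u' ⬝ᵥ ψ = 0) : PairB M u' ψ := by
  rcases eq_or_ne u' 0 with rfl | hu'
  · have := (h 0 (dotProduct_zero u)).smul_u 0
    rw [zero_smul] at this
    intro x ξ _
    exact ⟨1, M.one_mem, fun X => by rw [op_one, pure_zero_right]; simp⟩
  by_cases hl : u' ∈ F ∙ u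
  · obtain ⟨t, rfl⟩ := Submodule.mem_span_singleton.1 hl
    have ht : t ≠ 0 := fun e => hu' (by rw [e, zero_smul])
    rw [smul_dotProduct, smul_eq_mul] at huψ
    exact (h ψ ((mul_eq_zero.1 huψ).resolve_left ht)).smul_u t
  have hu2 : u ∉ F ∙ (u' - u) := by
    intro e
    obtain ⟨t, ht⟩ := Submodule.mem_span_singleton.1 e
    have ht0 : t ≠ 0 := fun e0 => hu (by rw [← ht, e0, zero_smul])
    refine hl (Submodule.mem_span_singleton.2 ⟨t⁻¹ + 1, ?_⟩)
    rw [add_smul, one_smul]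
    conv_lhs => arg 1; rw [← ht, smul_smul, inv_mul_cancel₀ ht0, one_smul]
    rw [sub_add_cancel]
  obtain ⟨φ, hφ0, hφ1⟩ := exists_sep hu2
  refine pairB_extend hN hb (u := u') (c := u) (fun ψ h1 h2 => ?_) ψ huψ
  have := (h ψ h2).conjB hN (hφ0 _ (Submodule.mem_span_singleton_self _))
  rw [hφ1, one_smul, add_sub_cancel, sub_dotProduct, h1, h2, sub_zero, zero_smul, sub_zero] at this
  exact this

theorem SL_le_of_pairB (ha : 2 ≤ a) (hb : 3 ≤ b)
    (hMS : M ≤ Cfsg.Geo.specialLinear (Fin a × Fin b) F)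
    (h : ∀ u ψ : Fin b → F, u ⬝ᵥ ψ = 0 → PairB M u ψ) :
    M = Cfsg.Geo.specialLinear (Fin a × Fin b) F := by
  have hIn : ∀ (i k : Fin a) (j l : Fin b) (s : F), i ≠ k → j ≠ l →
      SubfieldMax.InTr M (Pi.single (i, j) s) (Pi.single (k, l) 1) := by
    intro i k j l s hik hjl
    have hd : (Pi.single (k, l) (1 : F) : Fin a × Fin b → F) ⬝ᵥ Pi.single (i, j) s = 0 := by
      rw [single_dotProduct, Pi.single_eq_of_ne (by simp [hik.symm]), mul_zero]
    obtain ⟨g, hg, hX⟩ := h (Pi.single j 1) (Pi.single l 1)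
      (by rw [single_dotProduct, Pi.single_eq_of_ne hjl, mul_zero]) (Pi.single i s) (Pi.single k 1)
      (by rw [single_dotProduct, Pi.single_eq_of_ne hik.symm, mul_zero])
    refine ⟨hd, ?_⟩
    convert hg using 1
    refine ext_op fun X => ?_
    rw [hX]
    ext p q
    show ((FormMax.Tr _ _ hd : Matrix (Fin a × Fin b) (Fin a × Fin b) F) *ᵥ fun r => X r.1 r.2) (p, q) = _
    rw [FormMax.Tr_mulVec]
    by_cases h1 : p = i <;> by_cases h2 : q = j <;>
      simp [h1, h2, single_dotProduct, vecMulVec_apply, mulVec_single, Pi.single_apply, mul_comm]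
  have hone : ∀ (m : Fin a × Fin b), (Pi.single m (1 : F) : Fin a × Fin b → F) ⬝ᵥ Pi.single m 1 = 1 :=
    fun m => by simp
  have hzero : ∀ (m m' : Fin a × Fin b) (s : F), m ≠ m' →
      (Pi.single m (1 : F) : Fin a × Fin b → F) ⬝ᵥ Pi.single m' s = 0 := fun m m' s e => by
    rw [single_dotProduct, Pi.single_eq_of_ne e, mul_zero]
  have step : ∀ {p m r : Fin a × Fin b} {s : F}, SubfieldMax.InTr M (Pi.single p s) (Pi.single m 1) →
      SubfieldMax.InTr M (Pi.single m 1) (Pi.single r 1) → r ≠ p →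
      SubfieldMax.InTr M (Pi.single p s) (Pi.single r 1) := fun h1 h2 hne =>
    (h1.commAxis h2 (hzero _ _ _ hne)).congr rfl (by rw [hone, one_smul])
  have hexA : ∀ i : Fin a, ∃ m, m ≠ i := fun i => by
    haveI : Nontrivial (Fin a) := Fin.nontrivial_iff_two_le.2 ha
    exact exists_ne i
  have hexB : ∀ j l : Fin b, ∃ m, m ≠ j ∧ m ≠ l := fun j l => by
    by_contra hc
    push Not at hc
    have : Finset.univ ⊆ ({j, l} : Finset (Fin b)) := fun m _ => by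
      simp only [Finset.mem_insert, Finset.mem_singleton]
      exact or_iff_not_imp_left.2 (hc m)
    have := (Finset.card_le_card this).trans Finset.card_le_two
    simp at this
    omega
  have hsame : ∀ (i : Fin a) (j l : Fin b) (s : F), j ≠ l →
      SubfieldMax.InTr M (Pi.single (i, j) s) (Pi.single (i, l) 1) := by
    intro i j l s hjl
    obtain ⟨m, hm⟩ := hexA i
    obtain ⟨j', h1, h2⟩ := hexB j l
    exact step (hIn i m j j' s hm.symm h1.symm) (hIn m i j' l 1 hm h2)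
      (by simp [hjl.symm])
  have hall : ∀ p r : Fin a × Fin b, p ≠ r → ∀ s : F,
      SubfieldMax.InTr M (Pi.single p s) (Pi.single r 1) := by
    rintro ⟨i, j⟩ ⟨k, l⟩ hne s
    by_cases hik : i = k
    · subst hik
      exact hsame i j l s fun e => hne (by rw [e])
    by_cases hjl : j = l
    · subst hjl
      obtain ⟨l', hl', -⟩ := hexB j j
      exact step (hsame i j l' s hl'.symm) (hIn i k l' j 1 hik hl') (Ne.symm hne)
    exact hIn i k j l s hik hjl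
  refine le_antisymm hMS fun g hg => ?_
  have hK : M.comap (SpecialLinearGroup.toGL : SpecialLinearGroup (Fin a × Fin b) F →* _) = ⊤ := by
    refine LinGroup.eq_top_of_transvection_mem _ fun p r hpr s => ?_
    obtain ⟨hd, hm⟩ := hall p r hpr s
    show SpecialLinearGroup.toGL (SpecialLinearGroup.transvection hpr s) ∈ M
    convert hm using 1
    refine FormMax.gl_ext fun x => funext fun k => ?_
    rw [FormMax.Tr_mulVec]
    show (Matrix.transvection p r s *ᵥ x) k = _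
    rw [LinGroup.transvection_mulVec_apply]
    by_cases hk : k = p
    · subst hk; simp [single_dotProduct]; ring
    · simp [hk, single_dotProduct]
  obtain ⟨s, hs⟩ : g ∈ (SpecialLinearGroup.toGL : SpecialLinearGroup (Fin a × Fin b) F →* _).range := by
    rw [LinGroup.range_toGL]; exact hg
  have : s ∈ M.comap (SpecialLinearGroup.toGL : SpecialLinearGroup (Fin a × Fin b) F →* _) :=
    hK ▸ Subgroup.mem_top s
  exact hs ▸ this

/-- A non-scalar radical element gives all of `SL`. -/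
theorem eq_SL_of_rad (ha : 2 ≤ a) (hb : 3 ≤ b) (hex : 3 ≤ a ∨ ∃ t : F, t ≠ 0 ∧ t ≠ 1)
    (hMS : M ≤ Cfsg.Geo.specialLinear (Fin a × Fin b) F) (hu : u ≠ 0) (hR : Rad M u γ)
    (hns : ¬ ∃ ψ : Fin b → F, ∀ X, γ X = X *ᵥ ψ) :
    M = Cfsg.Geo.specialLinear (Fin a × Fin b) F := by
  obtain ⟨d, hd⟩ : ∃ d : Fin b → F, ∀ s : F, ∃ y, γ (vecMulVec y d) ≠ s • y := by
    by_contra hc
    push Not at hc
    choose σ hσ using hc
    refine hns ⟨fun j => σ (Pi.single j 1), fun X => ?_⟩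
    have hX : X = ∑ j, vecMulVec (fun i => X i j) (Pi.single j 1) := by
      ext p q
      simp [Matrix.sum_apply, vecMulVec_apply, Pi.single_apply]
    conv_lhs => rw [hX, map_sum]
    funext p
    simp only [hσ, Finset.sum_apply, Pi.smul_apply, smul_eq_mul, mulVec, dotProduct]
    exact Finset.sum_congr rfl fun j _ => mul_comm _ _
  have hS : InS M u d (γ ∘ₗ pl a d) := fun ψ h1 h2 =>
    (hR.diffB hN h2 h1).congr fun X => rfl
  obtain ⟨z, η, hz, hη, hηz, hzη⟩ := hS.exists_rankOne hN hex hd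
  have h1 : ∀ ψ, u ⬝ᵥ ψ = 0 → d ⬝ᵥ ψ = 0 → PairB M u ψ := fun ψ h1 h2 =>
    pairB_of_rk h1 h2 fun x ξ hξx => rk_all hN ha hex hz hη hηz hzη hξx
  exact SL_le_of_pairB hN ha (by omega) hMS fun u' ψ huψ =>
    pairB_all hN hb hu (pairB_extend hN hb h1) huψ

end Final

end Cfsg.Agent.Lib.TensorMax
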